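import Cfsg.Agent.RootInvolutions.NoSuzuki99.Kernel
import Cfsg.Agent.SFour64.Count

/-!
A member of a Suzuki component shares its image with at most `q²` members: the translations act
quadratically.
-/

set_option autoImplicit false

universe u

namespace CfsgLib.RootInv99

open Cfsg CfsgLib.RootInv CfsgLib.RootInv.OddCommon

variable {G : Type u} [Group G] [Finite G] {D : Set G}

/-- The group generated by the members commuting with `d`. -/
abbrev centGroup (D : Set G) (d : G) : Subgroup G := Subgroup.closure (centMembers D d)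

theorem centGroup_commute {d g : G} (hg : g ∈ centGroup D d) : Commute g d := by
  have hle : centGroup D d ≤ Subgroup.centralizer {d} := by
    rw [Subgroup.closure_le]
    exact fun m hm => Subgroup.mem_centralizer_singleton_iff.2 hm.2.eq
  exact Subgroup.mem_centralizer_singleton_iff.1 (hle hg)

theorem pts_le_centGroup (d : G) : Subgroup.closure (pts D d) ≤ centGroup D d :=
  Subgroup.closure_mono fun _ hu => ⟨hu.1, hu.2.1⟩

/-- An odd product of two members is not congruent to one modulo the centre and 2-core. -/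
theorem notMem_twoZCore_of_partner {W : Subgroup G} (hD : IsOddTranspositionSet D) {u w : ↥W}
    (hu : (u : G) ∈ D) (hw : (w : G) ∈ D) (huw : ¬ Commute (u : G) w) : u ∉ twoZCore ↥W := by
  intro hz
  have : Fact (Nat.Prime 2) := ⟨Nat.prime_two⟩
  have huu : u * u = 1 := Subtype.ext (mul_self hD.1 hu)
  have hww : w * w = 1 := Subtype.ext (mul_self hD.1 hw)
  have hc : QuotientGroup.mk' (pCore 2 ↥W) w * QuotientGroup.mk' (pCore 2 ↥W) u =
      QuotientGroup.mk' (pCore 2 ↥W) u * QuotientGroup.mk' (pCore 2 ↥W) w :=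
    Subgroup.mem_center_iff.1 hz _
  have h2 : QuotientGroup.mk' (pCore 2 ↥W) ((u * w) * (u * w)) = 1 := by
    rw [show (u * w) * (u * w) = u * (w * u) * w by group, map_mul, map_mul, map_mul _ w u, hc,
      ← map_mul, ← map_mul, ← map_mul, show u * (u * w) * w = (u * u) * (w * w) by group, huu, hww,
      one_mul, map_one]
  obtain ⟨k, hk⟩ := LocalP.isPGroup_pCore (G := ↥W) (p := 2) ⟨_, (QuotientGroup.eq_one_iff _).1 h2⟩
  have hk' : ((u : G) * w) ^ 2 ^ (k + 1) = 1 := by
    rw [pow_succ', pow_mul, pow_two]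
    exact congrArg (fun z : ↥(pCore 2 ↥W) => ((z : ↥W) : G)) hk
  exact huw (by
    rw [(eq_inv_of_mul_eq_one_left (eq_one_of_two_pow_of_odd hk'
      ((odd_or_commute hD hu hw).resolve_left huw))).trans (inv_self hD.1 hw)])

namespace Full

variable (h : Full D) {v d : G}

include h

/-- The centre modulo the 2-core of a component at `d` stays such in the centraliser group. -/
theorem map_twoZCore_le (hd : d ∈ D) {g : ↥(Subgroup.closure (pts D d))}
    (hg : g ∈ twoZCore ↥(Subgroup.closure (pts D d))) :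
    Subgroup.inclusion (pts_le_centGroup (D := D) d) g ∈ twoZCore ↥(centGroup D d) := by
  have : Fact (Nat.Prime 2) := ⟨Nat.prime_two⟩
  set ι := Subgroup.inclusion (pts_le_centGroup (D := D) d) with hι
  set N := (pCore 2 ↥(Subgroup.closure (pts D d))).map ι with hN
  have hgen : ∀ w ∈ centMembers D d, w ∈ pts D d ∨
      ∀ y ∈ Subgroup.closure (pts D d), Commute w y := by
    intro w hw
    by_cases hE : w ∈ sameCommutingClass D d
    · exact Or.inr fun y hy => SC.commute_closure_of_forall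
        (fun m hm => ((same_commute_iff hE hm.1).1 hm.2.1).symm) hy
    · exact Or.inl ⟨hw.1, hw.2, hE⟩
  have hnorm : N.Normal := by
    refine ⟨fun n hn w => ?_⟩
    obtain ⟨w, hw⟩ := w
    induction hw using Subgroup.closure_induction_left generalizing n with
    | one => rwa [show (⟨1, one_mem _⟩ : ↥(centGroup D d)) = 1 from rfl, one_mul, inv_one, mul_one]
    | mul_left p hp q hq ih =>
      have hq' := ih n hn
      have key : ∀ r ∈ N, (⟨p, Subgroup.subset_closure hp⟩ : ↥(centGroup D d)) * r *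
          (⟨p, Subgroup.subset_closure hp⟩ : ↥(centGroup D d))⁻¹ ∈ N := by
        rintro _ ⟨y, hy, rfl⟩
        rcases hgen p hp with hpp | hpc
        · exact ⟨_, (inferInstance : (pCore 2 ↥(Subgroup.closure (pts D d))).Normal).conj_mem y hy
            ⟨p, Subgroup.subset_closure hpp⟩, by rw [map_mul, map_mul, map_inv]; rfl⟩
        · have : Commute (⟨p, Subgroup.subset_closure hp⟩ : ↥(centGroup D d)) (ι y) :=
            Subtype.ext (hpc y y.2).eq
          rw [this.eq, mul_inv_cancel_right]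
          exact ⟨y, hy, rfl⟩
      have := key _ hq'
      convert this using 1
      apply Subtype.ext
      simp [mul_assoc]
    | inv_mul_cancel p hp q hq ih =>
      have hq' := ih n hn
      have hi : p⁻¹ = p := inv_self h.cx.ot.1 hp.1
      have key : ∀ r ∈ N, (⟨p, Subgroup.subset_closure hp⟩ : ↥(centGroup D d)) * r *
          (⟨p, Subgroup.subset_closure hp⟩ : ↥(centGroup D d))⁻¹ ∈ N := by
        rintro _ ⟨y, hy, rfl⟩
        rcases hgen p hp with hpp | hpc
        · exact ⟨_, (inferInstance : (pCore 2 ↥(Subgroup.closure (pts D d))).Normal).conj_mem y hy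
            ⟨p, Subgroup.subset_closure hpp⟩, by rw [map_mul, map_mul, map_inv]; rfl⟩
        · have : Commute (⟨p, Subgroup.subset_closure hp⟩ : ↥(centGroup D d)) (ι y) :=
            Subtype.ext (hpc y y.2).eq
          rw [this.eq, mul_inv_cancel_right]
          exact ⟨y, hy, rfl⟩
      have := key _ hq'
      convert this using 1
      apply Subtype.ext
      simp [mul_assoc, hi]
  have hp : IsPGroup 2 N := (LocalP.isPGroup_pCore (G := ↥(Subgroup.closure (pts D d)))).map ι
  have hNle := LocalP.le_pCore hnorm hp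
  show QuotientGroup.mk' (pCore 2 ↥(centGroup D d)) (ι g) ∈ Subgroup.center _
  rw [Subgroup.mem_center_iff]
  intro w
  obtain ⟨w, rfl⟩ := QuotientGroup.mk'_surjective _ w
  have hle : centGroup D d ≤ ((Subgroup.centralizer {QuotientGroup.mk' (pCore 2 ↥(centGroup D d))
      (ι g)}).comap (QuotientGroup.mk' _)).map (centGroup D d).subtype := by
    rw [Subgroup.closure_le]
    intro p hp
    refine ⟨⟨p, Subgroup.subset_closure hp⟩, Subgroup.mem_centralizer_singleton_iff.2 ?_, rfl⟩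
    rcases hgen p hp with hpp | hpc
    · have h1 : QuotientGroup.mk' (pCore 2 _) (⟨p, Subgroup.subset_closure hpp⟩ * g) =
          QuotientGroup.mk' (pCore 2 ↥(Subgroup.closure (pts D d)))
            (g * ⟨p, Subgroup.subset_closure hpp⟩) := by
        rw [map_mul, map_mul]; exact Subgroup.mem_center_iff.1 hg _
      rw [QuotientGroup.mk'_eq_mk'] at h1
      obtain ⟨z, hz, hze⟩ := h1
      rw [← map_mul, ← map_mul, QuotientGroup.mk'_eq_mk']
      exact ⟨ι z, hNle ⟨z, hz, rfl⟩, by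
        have := congrArg ι hze
        rw [map_mul, map_mul, map_mul] at this
        exact this⟩
    · exact ((show Commute (⟨p, Subgroup.subset_closure hp⟩ : ↥(centGroup D d)) (ι g) from
        Subtype.ext (hpc g g.2).eq).map _).eq
  obtain ⟨w', hw', hwe⟩ := hle w.2
  rw [Subtype.ext hwe] at hw'
  exact Subgroup.mem_centralizer_singleton_iff.1 hw'

theorem mem_centMembers_partner (hd : d ∈ D) {u : G} (hu : u ∈ pts D d) :
    (⟨u, Subgroup.subset_closure ⟨hu.1, hu.2.1⟩⟩ : ↥(centGroup D d)) ∉ twoZCore ↥(centGroup D d) := by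
  obtain ⟨w, hw, huw⟩ := (h.sc d hd).exists_not_commute hu
  exact notMem_twoZCore_of_partner (w := (⟨w, Subgroup.subset_closure ⟨hw.1, hw.2.1⟩⟩ : ↥(centGroup D d)))
    h.cx.ot hu.1 hw.1 huw

/-- At most `q²` members of a component share an image. -/
theorem lam_le (hv : v ∈ D) (hd : d ∈ pts D v) :
    (lam (pts D v) (img hd)).ncard ≤ rootOrder D v ^ 2 := by
  classical
  set M := pts D v
  have C := h.sc v hv
  have Cd := h.sc d hd.1
  have hvE : v ∉ sameCommutingClass D d := fun hE => hd.2.2 (twins_symm hE hd.1)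
  have hvd : v ∈ pts D d := ⟨hv, hd.2.1.symm, hvE⟩
  set W := centGroup D d with hW
  set ψ : ↥W →* ↥W ⧸ twoZCore ↥W := bar with hψ
  have hmemW : ∀ u, u ∈ D → Commute u d → u ∈ W := fun u hu hc => Subgroup.subset_closure ⟨hu, hc⟩
  have hdW := hmemW d hd.1 (Commute.refl d)
  have hψd : ψ ⟨d, hdW⟩ = 1 := by
    refine bar_eq_one.2 (Subgroup.mem_center_iff.2 fun w => ?_)
    obtain ⟨w, rfl⟩ := QuotientGroup.mk'_surjective _ w
    exact ((show Commute w ⟨d, hdW⟩ from Subtype.ext (centGroup_commute w.2).eq).map _).eq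
  -- the root group of `v`
  set V := Subgroup.closure (sameCommutingClass D v) with hV
  have hEW : ∀ e ∈ sameCommutingClass D v, e ∈ centMembers D d := fun e he =>
    ⟨he.1, ((same_commute_iff he hd.1).1 hd.2.1).symm⟩
  have hVW : V ≤ W := Subgroup.closure_mono hEW
  set θ : ↥V →* ↥W ⧸ twoZCore ↥W := ψ.comp (Subgroup.inclusion hVW) with hθ
  obtain ⟨x, hx, hvx⟩ := Cd.exists_not_commute hvd
  obtain ⟨l₁, l₂, hl⟩ := h.cx.line
  have hVmem : ∀ e ∈ V, e ≠ 1 → e ∈ sameCommutingClass D v := fun e he he1 =>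
    mem_twins_of_mem_closure h.cx.ot h.cx.one hl hv
      (h.cx.oddPartners_of hv hx.1 hvx) h.cx.pCore_eq_bot he he1
  have hθinj : Function.Injective θ := by
    rw [← MonoidHom.ker_eq_bot_iff, eq_bot_iff]
    intro e he
    rw [Subgroup.mem_bot]
    by_contra he1
    have heE := hVmem e e.2 fun h1 => he1 (Subtype.ext h1)
    exact h.mem_centMembers_partner hd.1 (Cd.twins_mem h.cx hvd heE)
      (bar_eq_one.1 (MonoidHom.mem_ker.1 he))
  have hVcard : Nat.card V = rootOrder D v := by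
    show Nat.card ↑(V : Set G) = _
    rw [rootOrder, Nat.card_coe_set_eq]
    have hset : (V : Set G) = insert 1 (sameCommutingClass D v) := by
      ext e
      refine ⟨fun he => (em (e = 1)).imp id (hVmem e he), ?_⟩
      rintro (rfl | he)
      · exact one_mem V
      · exact Subgroup.subset_closure he
    rw [hset, Set.ncard_insert_of_notMem (fun h1 => ne_one h.cx.ot.1 h1.1 rfl) (Set.toFinite _)]
  haveI : IsMulCommutative ↥V :=
    ⟨⟨fun p r => Subtype.ext (commute_closure_twins hv p.2 r.2).eq⟩⟩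
  letI : CommGroup ↥V := { (inferInstance : Group ↥V) with mul_comm := fun p r => mul_comm' p r }
  letI : Module (ZMod 2) (Additive ↥V) := AddCommGroup.zmodModule (n := 2) fun e => by
    show e.toMul ^ 2 = 1
    rw [pow_two]; exact Subtype.ext (sq_closure_twins h.cx.ot hv e.toMul.2)
  let bV := Module.finBasis (ZMod 2) (Additive ↥V)
  set n := Module.finrank (ZMod 2) (Additive ↥V)
  have hn : rootOrder D v = 2 ^ n := by
    rw [← hVcard, show Nat.card ↥V = Nat.card (Additive ↥V) from rfl, Module.natCard_eq_pow_finrank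
      (K := ZMod 2), Nat.card_zmod]
  let coord : ↥W ⧸ twoZCore ↥W → Fin n → ZMod 2 := fun y =>
    if hy : ∃ e : ↥V, θ e = y then bV.equivFun (Additive.ofMul hy.choose) else 0
  have hcoord : ∀ e : ↥V, coord (θ e) = bV.equivFun (Additive.ofMul e) := fun e => by
    have hy : ∃ e' : ↥V, θ e' = θ e := ⟨e, rfl⟩
    show dite _ _ _ = _
    rw [dif_pos hy, hθinj hy.choose_spec]
  have hadd : ∀ y ∈ θ.range, ∀ z ∈ θ.range, coord (y * z) = coord y + coord z := by
    rintro _ ⟨e, rfl⟩ _ ⟨e', rfl⟩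
    rw [← map_mul, hcoord, hcoord, hcoord, ofMul_mul, map_add]
  -- the images of the conjugates of `d`
  have himg : ∀ k ∈ transGroup M, ∃ hu : k * d * k⁻¹ ∈ M,
      ∃ hW' : k * d * k⁻¹ ∈ W, ψ ⟨k * d * k⁻¹, hW'⟩ ∈ θ.range ∧
        (ψ ⟨k * d * k⁻¹, hW'⟩ = 1 → k * d * k⁻¹ = d) := by
    intro k hk
    have hu := C.conj_mem (C.transGroup_le_closure hk) hd
    have he := C.img_conj_trans hd hk
    have hud : Commute (k * d * k⁻¹) d := (C.commute_iff hu hd).2 (by rw [he])
    have hW' := hmemW _ hu.1 hud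
    refine ⟨hu, hW', ?_⟩
    by_cases hE : k * d * k⁻¹ ∈ sameCommutingClass D d
    · have := C.twin_img_inj h.cx hd hu hE he.symm
      refine ⟨⟨1, ?_⟩, fun _ => this.symm⟩
      rw [map_one, ← hψd]
      exact congrArg ψ (Subtype.ext this)
    have hup : k * d * k⁻¹ ∈ pts D d := ⟨hu.1, hud, hE⟩
    refine ⟨?_, fun h1 => absurd (bar_eq_one.1 h1) (h.mem_centMembers_partner hd.1 hup)⟩
    obtain ⟨e, he', heE, hee⟩ := Cd.exists_twin_img h.cx hvd (Cd.orderOf_img hup)
      ((Cd.commute_iff hup hvd).1 hu.2.1)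
    refine ⟨⟨e, Subgroup.subset_closure heE⟩, ?_⟩
    have hz : inH he' * inH hup ∈ twoZCore ↥(Subgroup.closure (pts D d)) := by
      refine bar_eq_one.1 ?_
      rw [map_mul]
      show img he' * img hup = 1
      rw [hee, ← pow_two]
      exact sq_eq_one_of_orderOf_two (Cd.orderOf_img hup)
    have h2 := bar_eq_one.2 (h.map_twoZCore_le hd.1 hz)
    rw [map_mul, map_mul] at h2
    have hsq : ψ ⟨k * d * k⁻¹, hW'⟩ * ψ ⟨k * d * k⁻¹, hW'⟩ = 1 := by
      rw [← map_mul, show (⟨k * d * k⁻¹, hW'⟩ : ↥W) * ⟨k * d * k⁻¹, hW'⟩ = 1 from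
        Subtype.ext (mul_self h.cx.ot.1 hu.1), map_one]
    exact (eq_inv_of_mul_eq_one_left h2).trans (inv_eq_of_mul_eq_one_right hsq)
  -- the cocycle
  have hβT : ∀ l ∈ transGroup M, d * (l * d * l⁻¹) ∈ translations M := fun l hl => by
    obtain ⟨hu, -, -⟩ := himg l hl
    exact ⟨d, hd, _, hu, (C.img_conj_trans hd hl).symm, rfl⟩
  let β : G → G := fun l => d * (l * d * l⁻¹)
  let c : G → G → G := fun k l => k * β l * k⁻¹ * (β l)⁻¹
  have hprod : ∀ k l, (k * l) * d * (k * l)⁻¹ = (k * d * k⁻¹) * c k l * β l := by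
    intro k l
    simp only [c, β]
    rw [show k * d * k⁻¹ * (k * (d * (l * d * l⁻¹)) * k⁻¹ * (d * (l * d * l⁻¹))⁻¹) *
        (d * (l * d * l⁻¹)) = k * (d * d) * k⁻¹ * (k * l * d * (k * l)⁻¹) by group,
      mul_self h.cx.ot.1 hd.1]
    group
  have hcW : ∀ k (hk : k ∈ transGroup M), ∀ l (hl : l ∈ transGroup M), ∃ hc : c k l ∈ W, ψ ⟨c k l, hc⟩ ∈ θ.range ∧
      coord (ψ ⟨(k * l) * d * (k * l)⁻¹, (himg _ (mul_mem hk hl)).2.1⟩) =
        coord (ψ ⟨k * d * k⁻¹, (himg k hk).2.1⟩) + coord (ψ ⟨l * d * l⁻¹, (himg l hl).2.1⟩) +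
          coord (ψ ⟨c k l, hc⟩) := by
    intro k hk l hl
    obtain ⟨-, hWk, hrk, -⟩ := himg k hk
    obtain ⟨-, hWl, hrl, -⟩ := himg l hl
    obtain ⟨-, hWkl, hrkl, -⟩ := himg _ (mul_mem hk hl)
    have hβW : β l ∈ W := mul_mem hdW hWl
    have hψβ : ψ ⟨β l, hβW⟩ = ψ ⟨l * d * l⁻¹, hWl⟩ := by
      rw [show (⟨β l, hβW⟩ : ↥W) = ⟨d, hdW⟩ * ⟨l * d * l⁻¹, hWl⟩ from rfl, map_mul, hψd, one_mul]
    have hce : c k l = (k * d * k⁻¹)⁻¹ * ((k * l) * d * (k * l)⁻¹) * (β l)⁻¹ := by
      rw [hprod k l]; group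
    have hc : c k l ∈ W := hce ▸ mul_mem (mul_mem (inv_mem hWk) hWkl) (inv_mem hβW)
    have heq : (⟨(k * l) * d * (k * l)⁻¹, hWkl⟩ : ↥W) =
        ⟨k * d * k⁻¹, hWk⟩ * ⟨c k l, hc⟩ * ⟨β l, hβW⟩ := Subtype.ext (hprod k l)
    have hψeq := congrArg ψ heq
    rw [map_mul, map_mul, hψβ] at hψeq
    have hrc : ψ ⟨c k l, hc⟩ ∈ θ.range := by
      rw [show ψ ⟨c k l, hc⟩ = (ψ ⟨k * d * k⁻¹, hWk⟩)⁻¹ * ψ ⟨(k * l) * d * (k * l)⁻¹, hWkl⟩ *
        (ψ ⟨l * d * l⁻¹, hWl⟩)⁻¹ by rw [hψeq]; group]
      exact mul_mem (mul_mem (inv_mem hrk) hrkl) (inv_mem hrl)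
    refine ⟨hc, hrc, ?_⟩
    rw [hψeq, hadd _ (mul_mem hrk hrc) _ hrl, hadd _ hrk _ hrc]
    abel
  -- additivity of the cocycle
  have hcen : ∀ k ∈ transGroup M, ∀ l ∈ transGroup M, ∀ z, (∀ p ∈ M, Commute z p) →
      Commute z k ∧ Commute z (β l) := fun k hk l hl z hz =>
    ⟨SC.commute_closure_of_forall hz (C.transGroup_le_closure hk),
      SC.commute_closure_of_forall hz (C.transGroup_le_closure (Subgroup.subset_closure (hβT l hl)))⟩
  have hcz : ∀ k ∈ transGroup M, ∀ l ∈ transGroup M, ∀ p ∈ M, Commute (c k l) p := fun k hk l hl =>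
    C.commutator_transGroup h.cx hk (Subgroup.subset_closure (hβT l hl))
  have hcadd : ∀ k ∈ transGroup M, ∀ l ∈ transGroup M, ∀ l' ∈ transGroup M,
      c k (l * l') = c k l * c k l' := by
    intro k hk l hl l' hl'
    set z := c l l' with hz
    have hzc := hcz l hl l' hl'
    have hβ : β (l * l') = β l * z * β l' := by
      simp only [β]
      rw [hprod l l']
      simp only [β, mul_assoc, hz]
    obtain ⟨hzk, hzl⟩ := hcen k hk l hl z hzc
    have hw := hcz k hk l' hl'
    obtain ⟨hwk, hwl⟩ := hcen k hk l hl (c k l') hw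
    show k * β (l * l') * k⁻¹ * (β (l * l'))⁻¹ = c k l * c k l'
    rw [hβ]
    calc k * (β l * z * β l') * k⁻¹ * (β l * z * β l')⁻¹
        = k * β l * k⁻¹ * (k * z * k⁻¹) * (k * β l' * k⁻¹ * (β l')⁻¹) * z⁻¹ * (β l)⁻¹ := by group
      _ = k * β l * k⁻¹ * z * (c k l') * z⁻¹ * (β l)⁻¹ := by
          rw [← hzk.eq, mul_inv_cancel_right]
      _ = k * β l * k⁻¹ * (c k l') * (β l)⁻¹ := by
          rw [mul_assoc _ z (c k l'), (SC.commute_closure_of_forall hzc
            (mul_mem (mul_mem (mul_mem (C.transGroup_le_closure hk)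
              (C.transGroup_le_closure (Subgroup.subset_closure (hβT l' hl'))))
              (inv_mem (C.transGroup_le_closure hk)))
              (inv_mem (C.transGroup_le_closure (Subgroup.subset_closure (hβT l' hl')))))).eq,
            ← mul_assoc _ (c k l') z, mul_inv_cancel_right]
      _ = c k l * c k l' := by
          rw [mul_assoc _ (c k l') (β l)⁻¹, hwl.inv_right.eq, ← mul_assoc]
  -- the elementary abelian group
  set K0 := transGroup M
  let Z0 : Subgroup ↥K0 := (Subgroup.centralizer M).subgroupOf K0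
  have hZmem : ∀ k : ↥K0, k ∈ Z0 ↔ ∀ p ∈ M, Commute (k : G) p := fun k => by
    show (k : G) ∈ Subgroup.centralizer M ↔ _
    rw [Subgroup.mem_centralizer_iff]
    exact ⟨fun hk p hp => (hk p hp).symm, fun hk p hp => (hk p hp).eq.symm⟩
  haveI hZn : Z0.Normal := ⟨fun z hz k => by
    have : k * z * k⁻¹ = z := Subtype.ext (C.commute_closure_comm ((hZmem z).1 hz)
      (C.transGroup_le_closure k.2))
    rwa [this]⟩
  let E := ↥K0 ⧸ Z0
  have hsq : ∀ e : E, e * e = 1 := by
    intro e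
    obtain ⟨k, rfl⟩ := QuotientGroup.mk'_surjective Z0 e
    rw [← map_mul]
    exact (QuotientGroup.eq_one_iff _).2 ((hZmem _).2 (C.sq_transGroup h.cx k.2))
  let F : ↥K0 → Fin n → ZMod 2 := fun k => coord (ψ ⟨(k : G) * d * (k : G)⁻¹, (himg _ k.2).2.1⟩)
  have hFcon : ∀ k z : ↥K0, z ∈ Z0 → F (k * z) = F k := by
    intro k z hz
    refine congrArg (fun y => coord (ψ y)) (Subtype.ext ?_)
    show (k : G) * z * d * ((k : G) * z)⁻¹ = k * d * (k : G)⁻¹
    rw [mul_assoc (k : G) z d, ((hZmem z).1 hz d hd).eq]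
    group
  let f : E → Fin n → ZMod 2 := fun e => F e.out
  have hf : ∀ k : ↥K0, f (k : E) = F k := fun k => by
    obtain ⟨z, hz⟩ := QuotientGroup.mk_out_eq_mul Z0 k
    show F (k : E).out = F k
    rw [hz]; exact hFcon k z z.2
  have hF1 : F 1 = 0 := by
    show coord _ = 0
    rw [show (⟨((1 : ↥K0) : G) * d * ((1 : ↥K0) : G)⁻¹, (himg _ (1 : ↥K0).2).2.1⟩ : ↥W) =
      ⟨d, hdW⟩ from Subtype.ext (by simp), hψd, ← map_one θ, hcoord, ofMul_one, map_zero]
  let Dq : Fin n → E → E → ZMod 2 := fun j x y => f (x * y) j - f x j - f y j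
  have hDq : ∀ k l : ↥K0, ∀ j, Dq j k l = coord (ψ ⟨c k l, (hcW k k.2 l l.2).choose⟩) j := by
    intro k l j
    show f ((k : E) * (l : E)) j - f k j - f l j = _
    rw [← QuotientGroup.mk_mul, hf, hf, hf]
    have := (hcW k k.2 l l.2).choose_spec.2
    have h5 := congrFun this j
    simp only [Pi.add_apply] at h5
    show coord (ψ ⟨((k : G) * l) * d * ((k : G) * l)⁻¹, (himg _ (mul_mem k.2 l.2)).2.1⟩) j -
      coord (ψ ⟨(k : G) * d * (k : G)⁻¹, (himg _ k.2).2.1⟩) j -
      coord (ψ ⟨(l : G) * d * (l : G)⁻¹, (himg _ l.2).2.1⟩) j = _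
    linear_combination h5
  have hquad := SFour64.card_le_of_quadratic (E := E) hsq (m := n) (fun j e => f e j)
    (fun j => by
      show f ((1 : ↥K0) : E) j = 0
      rw [hf, hF1]; rfl) Dq
    (fun j x y => by simp only [Dq]; ring)
    (fun j x y w => by
      obtain ⟨k, rfl⟩ := QuotientGroup.mk_surjective x
      obtain ⟨l, rfl⟩ := QuotientGroup.mk_surjective y
      obtain ⟨l', rfl⟩ := QuotientGroup.mk_surjective w
      rw [← QuotientGroup.mk_mul, hDq, hDq, hDq]
      rw [← Pi.add_apply, ← hadd _ (hcW k k.2 l l.2).choose_spec.1 _ (hcW k k.2 l' l'.2).choose_spec.1,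
        ← map_mul]
      refine congrArg (fun u => coord (ψ u) j) (Subtype.ext ?_)
      show c k ((l : G) * l') = c k l * c k l'
      exact hcadd k k.2 l l.2 l' l'.2)
  -- members with the image of `d`, against the zeros
  have hstab : ∀ k : ↥K0, f (k : E) = 0 → (k : G) * d * (k : G)⁻¹ = d := by
    intro k hk
    obtain ⟨-, hW', ⟨e, he⟩, h1⟩ := himg k k.2
    refine h1 ?_
    rw [hf] at hk
    have hk' : coord (ψ ⟨(k : G) * d * (k : G)⁻¹, hW'⟩) = 0 := hk
    rw [← he, hcoord, LinearEquiv.map_eq_zero_iff, ofMul_eq_zero] at hk'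
    rw [← he, hk', map_one]
  have hsec : ∀ u : ↑(lam M (img hd)), ∃ k : ↥K0, (k : G) * d * (k : G)⁻¹ = u := by
    rintro ⟨u, hu, hue⟩
    obtain ⟨k, hk, hke⟩ := C.exists_translation h.cx hd hu hue
    exact ⟨⟨k, hk⟩, hke⟩
  choose sec hsec' using hsec
  have hinj : Nat.card (↑(lam M (img hd)) × {e : E // ∀ j, f e j = 0}) ≤ Nat.card E := by
    refine Nat.card_le_card_of_injective (fun p => (sec p.1 : E) * p.2.1) ?_
    rintro ⟨u, e, he⟩ ⟨u', e', he'⟩ heq
    obtain ⟨k, rfl⟩ := QuotientGroup.mk_surjective e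
    obtain ⟨k', rfl⟩ := QuotientGroup.mk_surjective e'
    replace heq : ((sec u * k : ↥K0) : E) = ((sec u' * k' : ↥K0) : E) := by
      rw [QuotientGroup.mk_mul, QuotientGroup.mk_mul]; exact heq
    rw [QuotientGroup.eq] at heq
    have hfix : ∀ z : ↥K0, z ∈ Z0 → (z : G) * d * (z : G)⁻¹ = d := fun z hz => by
      rw [((hZmem z).1 hz d hd).eq, mul_inv_cancel_right]
    have e1 := hfix _ heq
    have e2 := hstab k (funext he)
    have e3 := hstab k' (funext he')
    have e4 : ((sec u' * k' : ↥K0) : G) * d * ((sec u' * k' : ↥K0) : G)⁻¹ =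
        ((sec u * k : ↥K0) : G) * d * ((sec u * k : ↥K0) : G)⁻¹ := by
      conv_rhs => rw [← e1]
      push_cast
      group
    have key : ∀ (u : ↑(lam M (img hd))) (k : ↥K0), (k : G) * d * (k : G)⁻¹ = d →
        ((sec u * k : ↥K0) : G) * d * ((sec u * k : ↥K0) : G)⁻¹ = u := fun u k hk => by
      rw [← hsec' u]
      conv_rhs => rw [← hk]
      push_cast
      group
    rw [key u' k' e3, key u k e2] at e4
    obtain rfl : u = u' := Subtype.ext e4.symm
    have : (k : E) = (k' : E) := by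
      have h5 := (QuotientGroup.eq (s := Z0)).2 heq
      simpa using h5
    exact Prod.ext rfl (Subtype.ext this)
  rw [Nat.card_prod, Nat.card_coe_set_eq] at hinj
  have hpos : 0 < Nat.card {e : E // ∀ j, f e j = 0} := by
    haveI : Nonempty {e : E // ∀ j, f e j = 0} := ⟨⟨((1 : ↥K0) : E), fun j => by rw [hf, hF1]; rfl⟩⟩
    exact Nat.card_pos
  rw [hn, ← pow_mul, mul_comm n 2]
  exact Nat.le_of_mul_le_mul_right (hinj.trans hquad) hpos

end Full

end CfsgLib.RootInv99
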