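import Cfsg.Agent.RootInvolutions.NoSuzuki99.Span
import Cfsg.Agent.RootInvolutions.OddCommon.Main52
import Cfsg.Agent.Criterion.Final
import Cfsg.Agent.Criterion.Export

/-!
A component of the centraliser of a member that contains a pair with a Suzuki span is a Suzuki
group modulo its centre and 2-core.
-/

set_option autoImplicit false

universe u

namespace CfsgLib.RootInv99

open Cfsg CfsgLib.RootInv CfsgLib.RootInv.OddCommon

/-- The criterion. -/
theorem criterion : RankOneBN.Criterion.{u} :=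
  CfsgLib.Criterion.rankOneBNCriterion CfsgLib.Criterion.pieces

/-- Flat spans in the smaller connected classes. -/
def Ind (n : ℕ) : Prop :=
  ∀ (K : Type u) [Group K] [Finite K], Nat.card K < n → ∀ E : Set K, IsOddTranspositionSet E →
    OneClass E → (∃ a b, Line E a b) → IsConnectedSet (CommAdj E) E →
    ∀ d ∈ E, ∀ x ∈ oddPartners E d, TwoFlat (span E d x)

/-- The standing hypotheses on a minimal configuration. -/
structure Cx {G : Type u} [Group G] (D : Set G) : Prop where
  ot : IsOddTranspositionSet D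
  one : OneClass D
  line : ∃ a b, Line D a b
  conn : IsConnectedSet (CommAdj D) D
  simple : IsSimpleGroup G
  ind : Ind.{u} (Nat.card G)

variable {G : Type u} [Group G] [Finite G] {D : Set G}

/-- The members inside the group they generate. -/
abbrev setIn (M : Set G) : Set ↥(Subgroup.closure M) := {h | (h : G) ∈ M}

/-- The image of a member modulo the centre and 2-core of the group of its set. -/
abbrev img {M : Set G} {m : G} (hm : m ∈ M) :
    ↥(Subgroup.closure M) ⧸ twoZCore ↥(Subgroup.closure M) :=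
  bar ⟨m, Subgroup.subset_closure hm⟩

/-- A set of members generating a Suzuki group modulo its centre and 2-core. -/
structure SzSet (M : Set G) (q : ℕ) : Prop where
  disc : Disc (setIn M)
  sz : SzLike (↥(Subgroup.closure M) ⧸ twoZCore ↥(Subgroup.closure M)) q

namespace Cx

variable (h : Cx D)

include h

theorem exists_not_commute : ∃ u ∈ D, ∃ v ∈ D, ¬ Commute u v := by
  obtain ⟨a, b, hl⟩ := h.line
  by_contra hcon
  push Not at hcon
  refine twoZCore_ne_top h.ot.1 h.one hl ?_
  rw [eq_top_iff, ← h.ot.1.generates, Subgroup.closure_le]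
  intro x hx
  have hc : Subgroup.closure D ≤ Subgroup.centralizer {x} := by
    rw [Subgroup.closure_le]
    exact fun y hy => Subgroup.mem_centralizer_singleton_iff.2 (hcon y hy x hx).eq
  rw [h.ot.1.generates] at hc
  have hz : x ∈ Subgroup.center G := Subgroup.mem_center_iff.2 fun g =>
    Subgroup.mem_centralizer_singleton_iff.1 (hc (Subgroup.mem_top g))
  refine (Subgroup.mem_center_iff).2 fun g => ?_
  obtain ⟨g, rfl⟩ := QuotientGroup.mk'_surjective _ g
  rw [← map_mul, ← map_mul, Subgroup.mem_center_iff.1 hz g]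

theorem center_eq_bot : Subgroup.center G = ⊥ := by
  have := h.simple
  obtain ⟨u, hu, v, hv, huv⟩ := h.exists_not_commute
  refine ((inferInstance : (Subgroup.center G).Normal).eq_bot_or_eq_top).resolve_right fun e => huv ?_
  exact (Subgroup.mem_center_iff.1 (e ▸ Subgroup.mem_top u : u ∈ Subgroup.center G) v).symm

theorem notMem_center {v : G} (hv : v ∈ D) : v ∉ Subgroup.center G := fun hz => by
  rw [h.center_eq_bot, Subgroup.mem_bot] at hz
  exact ne_one h.ot.1 hv hz

theorem exists_partner {d : G} (hd : d ∈ D) : ∃ x, x ∈ oddPartners D d := by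
  by_contra hcon
  push Not at hcon
  refine h.notMem_center hd ?_
  have hc : Subgroup.closure D ≤ Subgroup.centralizer {d} := by
    rw [Subgroup.closure_le]
    intro y hy
    refine Subgroup.mem_centralizer_singleton_iff.2 ?_
    by_contra hc
    exact hcon y ⟨hy, fun e => hc (by rw [e]),
      (odd_or_commute h.ot hd hy).resolve_left fun e => hc e.symm⟩
  rw [h.ot.1.generates] at hc
  exact Subgroup.mem_center_iff.2 fun g =>
    Subgroup.mem_centralizer_singleton_iff.1 (hc (Subgroup.mem_top g))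

theorem pCore_eq_bot : pCore 2 G = ⊥ := by
  have := h.simple
  have : Fact (Nat.Prime 2) := ⟨Nat.prime_two⟩
  refine ((inferInstance : (pCore 2 G).Normal).eq_bot_or_eq_top).resolve_right fun e => ?_
  obtain ⟨a, b, hl⟩ := h.line
  obtain ⟨x, hx⟩ := h.exists_partner hl.1
  have hi := mem_isolated_of_mem_normal_pGroup h.ot.1 inferInstance
    (LocalP.isPGroup_pCore (G := G) (p := 2)) hl.1 (e ▸ Subgroup.mem_top a)
  exact (hi.2 x).1 ⟨hl.1, hx.1, hx.2.1.symm, hx.2.2⟩

theorem common {d x : G} (hd : d ∈ D) (hx : x ∈ oddPartners D d) :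
    ∃ c ∈ D, Commute c d ∧ Commute c x :=
  below criterion (Nat.card G + 1) G (Nat.lt_succ_self _) D h.ot h.one h.line h.conn d hd x hx.1
    (not_commute_of_odd h.ot.1 hd hx.1 hx.2.1.symm hx.2.2)

theorem oddPartners_of {a b : G} (ha : a ∈ D) (hb : b ∈ D) (hab : ¬ Commute a b) :
    b ∈ oddPartners D a :=
  ⟨hb, fun e => hab (by rw [e]), (odd_or_commute h.ot ha hb).resolve_left hab⟩

theorem root_pow {a b : G} (ha : a ∈ D) (hb : b ∈ oddPartners D a) :
    ∃ k, 2 ≤ k ∧ rootOrder D a = 2 ^ k := by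
  obtain ⟨l₁, l₂, hl⟩ := h.line
  rcases span_cases h.ot h.one hl ha hb h.pCore_eq_bot criterion with hs |
    ⟨F, hFi, hFt, hF, h4, hq, -⟩
  · obtain ⟨m, hm, hq⟩ := hs.q_pow
    exact ⟨_, by omega, hq⟩
  · letI := hFi; letI := hFt
    obtain ⟨n, -, hn⟩ := FiniteField.card F 2
    refine ⟨n, ?_, hq ▸ hn⟩
    by_contra hlt
    have : (n : ℕ) = 1 := by have := n.pos; omega
    rw [this] at hn
    omega

section Comp

variable {v a b : G}

theorem comp_eq (hb : b ∈ comp D v a) : comp D v b = comp D v a := by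
  ext w
  exact ⟨fun hw => ⟨hw.1, hb.2.trans hw.2⟩,
    fun hw => ⟨hw.1, (Reach.symm_sub h.ot.1 (K := centMembers D v) (fun z hz => hz.1) hb.2).trans hw.2⟩⟩

theorem commute_of_outside (hb : b ∈ comp D v a) {w : G} (hw : w ∈ D) (hwv : Commute w v)
    (hn : w ∉ comp D v a) : Commute w b := by
  by_contra hc
  exact hn (mem_comp_of_not_commute h.ot hb hw hwv hc)

omit h [Finite G] in
theorem mem_of_comp (hb : b ∈ comp D v a) : b ∈ D ∧ Commute b v := hb.1

/-- The twins of a member of a component with a partner there lie in it. -/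
theorem twins_mem_comp (hab : ¬ Commute a b) (ha : a ∈ D) (hav : Commute a v) (hb : b ∈ comp D v a)
    (hv : v ∈ D) {e : G} (he : e ∈ sameCommutingClass D a) : e ∈ comp D v a := by
  refine mem_comp_of_not_commute h.ot hb he.1 ((same_commute_iff he hv).1 hav.symm).symm fun hc =>
    hab ((same_commute_iff he hb.1.1).2 hc.symm).symm

/-- A pair with a Suzuki span lies in a disconnected component. -/
theorem disc_of_bad (hv : v ∈ D) (ha : a ∈ D) (hav : Commute a v) (hb : b ∈ comp D v a)
    (hab : ¬ Commute a b) {q : ℕ}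
    (hbad : SzLike (↥(span D a b) ⧸ pCore 2 ↥(span D a b)) q) :
    Disc (compSet D v a) := by
  obtain ⟨hot, hone⟩ := compSet_ot h.ot hav ha
  obtain ⟨l₁, l₂, hl⟩ := h.line
  obtain ⟨f, hf⟩ := exists_line h.ot.1 h.one hl ha
  have htw := fun {e : G} => h.twins_mem_comp hab ha hav hb hv (e := e)
  have haM := self_mem_comp ha hav
  have hfM := htw (line_twin h.ot hf)
  have hafM := htw (line_twin h.ot (Line.third h.ot.1 hf))
  have hline : ∃ c d, Line (compSet D v a) c d :=
    ⟨⟨a, Subgroup.subset_closure haM⟩, ⟨f, Subgroup.subset_closure hfM⟩, haM, hfM, hafM⟩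
  refine ⟨hot, hone, hline, fun hconn => not_twoFlat_of_suzuki hbad ?_, criterion⟩
  have hlt : Nat.card (compGroup D v a) < Nat.card G := by
    refine lt_of_le_of_ne (Subgroup.card_le_card_group _) fun e => h.notMem_center hv ?_
    have htop := (Subgroup.card_eq_iff_eq_top _).mp e
    rw [Subgroup.mem_center_iff]
    intro g
    exact Subgroup.mem_centralizer_singleton_iff.mp
      (compGroup_le (D := D) v a (htop ▸ Subgroup.mem_top g))
  have hbX : (⟨b, Subgroup.subset_closure hb⟩ : compGroup D v a) ∈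
      oddPartners (compSet D v a) ⟨a, Subgroup.subset_closure haM⟩ := by
    obtain ⟨h1, h2, h3⟩ := h.oddPartners_of ha hb.1.1 hab
    exact ⟨hb, fun e => h2 (congrArg Subtype.val e), by rw [← Subgroup.orderOf_coe]; exact h3⟩
  refine ((h.ind _ hlt _ hot hone hline hconn _ haM _ hbX).map
    (compGroup D v a).subtype_injective).mono ?_
  rw [MonoidHom.map_closure, Subgroup.closure_le]
  rintro w (hw | rfl)
  · refine Subgroup.subset_closure ⟨⟨w, Subgroup.subset_closure (htw hw)⟩, Or.inl ⟨htw hw, ?_⟩, rfl⟩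
    ext z
    constructor
    · rintro ⟨hz, hc⟩
      exact ⟨hz, Subtype.ext ((same_commute_iff hw hz.1.1).1 (congrArg Subtype.val hc)).eq⟩
    · rintro ⟨hz, hc⟩
      exact ⟨hz, Subtype.ext ((same_commute_iff hw hz.1.1).2 (congrArg Subtype.val hc)).eq⟩
  · exact Subgroup.subset_closure ⟨⟨w, Subgroup.subset_closure hb⟩, Or.inr rfl, rfl⟩

end Comp

end Cx

/-- Commuting is transitive in a disconnected class. -/
theorem disc_trans {Y : Type u} [Group Y] [Finite Y] {S : Set Y} (hd : Disc S) {e g q : Y}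
    (he : e ∈ S) (hg : g ∈ S) (hq : q ∈ S) (heg : Commute e g) (heq : Commute e q) : Commute g q := by
  obtain ⟨b, c, hl⟩ := hd.line
  haveI := RootPoints.pointKer_normal hd.ot.1
  have hle : RootPoints.pointKer hd.ot.1 ≤ twoZCore Y :=
    (eq_top_or_le_twoZCore hd.ot.1 hd.one hl _).resolve_left fun e' =>
      RootPoints.notMem_pointKer hd.ot.1 hd.dis hl.1 (e' ▸ Subgroup.mem_top b)
  have h1 := RootPoints.commute_image_of_common hd.crit hd.ot.1 hd.dis ⟨b, c, hl⟩ he hg hq heg heq
  refine hd.commute_of_bar hg hq ?_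
  have hm : ∀ y, bar y = QuotientGroup.map _ (twoZCore Y) (MonoidHom.id Y) hle
      (QuotientGroup.mk' (RootPoints.pointKer hd.ot.1) y) := fun y => rfl
  rw [hm g, hm q]
  exact h1.map _

theorem pow_four_sub_one (q : ℕ) : q ^ 4 - 1 = (q ^ 2 + 1) * (q - 1) * (q + 1) := by
  rw [show q ^ 4 - 1 = (q ^ 2) ^ 2 - 1 ^ 2 by rw [← pow_mul, one_pow], Nat.sq_sub_sq,
    show q ^ 2 - 1 = q ^ 2 - 1 ^ 2 by rw [one_pow], Nat.sq_sub_sq]
  ring

theorem sq_sub_one_dvd (q : ℕ) : q ^ 2 - 1 ∣ q ^ 4 - 1 :=
  ⟨q ^ 2 + 1, by rw [show q ^ 4 - 1 = (q ^ 2) ^ 2 - 1 ^ 2 by rw [← pow_mul, one_pow], Nat.sq_sub_sq,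
    mul_comm]⟩

/-- A power of two minus one dividing another is governed by the exponents. -/
theorem le_of_pow_sub_one_dvd {N k : ℕ} (hN : Odd N) (hk : 0 < k)
    (h : 2 ^ N - 1 ∣ (2 ^ k) ^ 4 - 1) : N ≤ k := by
  rw [← pow_mul] at h
  have h1 := Nat.gcd_eq_left h
  rw [Nat.pow_sub_one_gcd_pow_sub_one] at h1
  have h2 : Nat.gcd N (k * 4) = N := Nat.pow_right_injective le_rfl (by
    have := Nat.one_le_two_pow (n := Nat.gcd N (k * 4))
    have := Nat.one_le_two_pow (n := N)
    show 2 ^ Nat.gcd N (k * 4) = 2 ^ N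
    omega)
  have hco : Nat.Coprime N 4 := (Nat.Coprime.pow_right 2 hN.coprime_two_right : Nat.Coprime N (2 ^ 2))
  exact Nat.le_of_dvd hk (hco.dvd_of_dvd_mul_right (Nat.gcd_eq_left_iff_dvd.mp h2))

section Emb

variable {M : Set G} {a b : G}

/-- The span of a pair mapped to the quotient of the group of a set containing it. -/
noncomputable def spanHom (hle : span D a b ≤ Subgroup.closure M) :
    ↥(span D a b) →* ↥(Subgroup.closure M) ⧸ twoZCore ↥(Subgroup.closure M) :=
  bar.comp (Subgroup.inclusion hle)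

theorem isSolvable_ker_spanHom (hle : span D a b ≤ Subgroup.closure M) :
    Group.IsSolvable (spanHom hle).ker := by
  have := twoZCore_isSolvable (G := ↥(Subgroup.closure M))
  refine Group.isSolvable_of_isSolvable_injective (f :=
    ((Subgroup.inclusion hle).comp (spanHom hle).ker.subtype).codRestrict
      (twoZCore ↥(Subgroup.closure M)) fun g => bar_eq_one.1 (MonoidHom.mem_ker.1 g.2)) ?_
  intro g g' hgg
  exact Subtype.ext (Subgroup.inclusion_injective hle (congrArg Subtype.val hgg))

theorem span_le_closure (hM : ∀ e ∈ sameCommutingClass D a, e ∈ M) (hb : b ∈ M) :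
    span D a b ≤ Subgroup.closure M := by
  refine Subgroup.closure_mono ?_
  rintro w (hw | rfl)
  · exact hM w hw
  · exact hb

theorem card_quot_dvd_range [IsSimpleGroup (↥(span D a b) ⧸ pCore 2 ↥(span D a b))]
    (hns : ¬ Group.IsSolvable (↥(span D a b) ⧸ pCore 2 ↥(span D a b))) {K : Type*} [Group K]
    (f : ↥(span D a b) →* K) [Group.IsSolvable f.ker] :
    Nat.card (↥(span D a b) ⧸ pCore 2 ↥(span D a b)) ∣ Nat.card f.range := by
  rw [← Subgroup.index_eq_card, ← Subgroup.index_ker]
  exact Subgroup.index_dvd_of_le (ker_le_core hns f)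

end Emb

namespace Cx

variable (h : Cx D) {v a b : G}

include h

/-- The centralising component of a bad pair. -/
theorem szSet_of_bad (hv : v ∈ D) (ha : a ∈ D) (hav : Commute a v) (hb : b ∈ comp D v a)
    (hab : ¬ Commute a b) (hbad : SzLike (↥(span D a b) ⧸ pCore 2 ↥(span D a b)) (rootOrder D a)) :
    SzSet (comp D v a) (rootOrder D a) := by
  classical
  have hdisc : Disc (setIn (comp D v a)) := h.disc_of_bad hv ha hav hb hab hbad
  refine ⟨hdisc, ?_⟩
  obtain ⟨l₁, l₂, hl⟩ := h.line
  obtain ⟨c₁, c₂, hl'⟩ := hdisc.line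
  have hbp := h.oddPartners_of ha hb.1.1 hab
  have haM := self_mem_comp ha hav
  have htw := fun {e : G} => h.twins_mem_comp hab ha hav hb hv (e := e)
  have hle := span_le_closure (M := comp D v a) (fun e he => htw he) hb
  haveI := isSolvable_ker_spanHom hle
  obtain ⟨g, ⟨k, hk⟩, hg⟩ := exists_image_four hbad (spanHom hle)
  have hgk : spanHom hle g ^ 2 ^ k = 1 := by rw [← map_pow, hk, map_one]
  rcases classify hdisc.ot.1 hdisc.one hl' (RootPoints.seHyp criterion) RankOneClassify.allPPlus
      RankOneClassify.pieces hdisc.dis with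
    ⟨F, hFi, hFt, hF, -, ⟨e⟩⟩ | hsz | ⟨F, hFi, hFt, Q, hF, hFQ, -, ⟨e⟩⟩
  · letI := hFi; letI := hFt; haveI := hF
    exact absurd (sq_eq_one_psl e hgk) hg
  swap
  · letI := hFi; letI := hFt; haveI := hF
    exfalso
    set φ := e.toMonoidHom.comp (spanHom hle) with hφ
    let T : Set ↥(span D a b) := {z | (z : G) ∈ sameCommutingClass D a}
    have hsq : ∀ z : ↥(span D a b), (z : G) ∈ D → φ z * φ z = 1 := fun z hz => by
      rw [← map_mul, show z * z = 1 from Subtype.ext (mul_self h.ot.1 hz), map_one]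
    refine hg (e.injective ?_)
    rw [map_pow, map_one]
    refine psu_three_flat hFQ (E := φ '' T) ?_ ?_ (e := φ ⟨a, left_mem_span ha b⟩)
      ⟨_, mem_same_self h.ot ha, rfl⟩ (x := φ ⟨b, right_mem_span a b⟩) (hsq _ hb.1.1) ?_
      (y := φ g) ?_ ⟨k, by rw [← map_pow, hk, map_one]⟩
    · rintro _ ⟨z, hz, rfl⟩
      exact hsq z hz.1
    · rintro _ ⟨z, hz, rfl⟩ _ ⟨z', hz', rfl⟩
      exact (show Commute z z' from Subtype.ext (same_commute ha hz hz').eq).map φ
    · intro hc
      exact hab (congrArg Subtype.val (hdisc.commute_of_bar (u := ⟨a, Subgroup.subset_closure haM⟩)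
        (v := ⟨b, Subgroup.subset_closure hb⟩) haM hb
        (by have := hc.map e.symm; simp [hφ, spanHom] at this; exact this)).eq)
    · have hmem : φ g ∈ (Subgroup.closure (Subtype.val ⁻¹'
          (sameCommutingClass D a ∪ {b}) : Set ↥(span D a b))).map φ := by
        rw [Subgroup.closure_closure_coe_preimage]
        exact Subgroup.mem_map_of_mem φ (Subgroup.mem_top g)
      rw [MonoidHom.map_closure] at hmem
      refine Subgroup.closure_mono ?_ hmem
      rintro _ ⟨z, hz | hz, rfl⟩
      · exact Or.inl ⟨z, hz, rfl⟩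
      · exact Or.inr (congrArg φ (Subtype.ext hz))
  obtain ⟨Q, hQ⟩ := szLike_of_iso hsz
  obtain ⟨m, hm, hQm⟩ := hQ.q_pow
  -- the twins of `a` inject into the involutions centralising its image
  have h1 : rootOrder D a ≤ Q := by
    have hle' : (sameCommutingClass D a).ncard ≤ Q - 1 := by
      rw [← hQ.inv.invols (img haM) (hdisc.orderOf_bar haM)]
      have := hQ.finite
      refine Set.ncard_le_ncard_of_injOn
        (fun e => if he : e ∈ comp D v a then img he else 1) (fun e he => ?_) (fun e he f hf heq => ?_)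
        (Set.toFinite _)
      · simp only [dif_pos (htw he)]
        exact ⟨hdisc.orderOf_bar (htw he), (show Commute (⟨e, Subgroup.subset_closure (htw he)⟩ :
          ↥(Subgroup.closure (comp D v a))) ⟨a, Subgroup.subset_closure haM⟩ from
          Subtype.ext (same_commute ha he ⟨ha, rfl⟩).eq).map bar⟩
      · simp only [dif_pos (htw he), dif_pos (htw hf)] at heq
        by_contra hne
        have hm' := twin_mul h.ot h.one hl ha h.pCore_eq_bot ⟨b, hbp⟩ he hf hne
        have hff : (⟨f, Subgroup.subset_closure (htw hf)⟩ : ↥(Subgroup.closure (comp D v a))) *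
            ⟨f, Subgroup.subset_closure (htw hf)⟩ = 1 := Subtype.ext (mul_self h.ot.1 hf.1)
        refine hdisc.bar_ne_one (u := ⟨e * f, Subgroup.subset_closure (htw hm')⟩) (htw hm') ?_
        show bar ((⟨e, Subgroup.subset_closure (htw he)⟩ : ↥(Subgroup.closure (comp D v a))) *
          ⟨f, Subgroup.subset_closure (htw hf)⟩) = 1
        rw [map_mul]
        show img (htw he) * img (htw hf) = 1
        rw [heq, ← map_mul, hff, map_one]
    have := hQ.eight_le
    rw [rootOrder]
    omega
  -- an element of order `Q - 1` is a product of two members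
  have h2 : Q ≤ rootOrder D a := by
    obtain ⟨x, y, hx, hy, hxy⟩ := hQ.torus
    have lift : ∀ z, orderOf z = 2 → ∃ (w : G) (hw : w ∈ comp D v a), img hw = z := by
      intro z hz
      obtain ⟨c, hc⟩ := isConj_iff.1 (hQ.inv.conj (img haM) z (hdisc.orderOf_bar haM) hz)
      obtain ⟨c, rfl⟩ := QuotientGroup.mk'_surjective _ c
      refine ⟨_, hdisc.ot.1.conj_mem ⟨a, Subgroup.subset_closure haM⟩ haM c, ?_⟩
      rw [← hc]
      show bar _ = bar c * bar _ * (bar c)⁻¹
      rw [← map_inv, ← map_mul, ← map_mul]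
    obtain ⟨w₁, hw₁, rfl⟩ := lift x hx
    obtain ⟨w₂, hw₂, rfl⟩ := lift y hy
    have hQ8 := hQ.eight_le
    have hnc : ¬ Commute w₁ w₂ := fun hc => by
      have hc' : Commute (img hw₁) (img hw₂) := (show Commute (⟨w₁, Subgroup.subset_closure hw₁⟩ :
        ↥(Subgroup.closure (comp D v a))) ⟨w₂, Subgroup.subset_closure hw₂⟩ from
        Subtype.ext hc.eq).map bar
      have h2' : (img hw₁ * img hw₂) ^ 2 = 1 := by
        rw [hc'.mul_pow, sq_eq_one_of_orderOf_two hx, sq_eq_one_of_orderOf_two hy, one_mul]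
      have := Nat.le_of_dvd two_pos (orderOf_dvd_of_pow_eq_one h2')
      omega
    have hw12 := h.oddPartners_of hw₁.1.1 hw₂.1.1 hnc
    have hd1 : Q - 1 ∣ Nat.card ↥(span D w₁ w₂) := by
      rw [← hxy, show img hw₁ * img hw₂ = bar ((⟨w₁, Subgroup.subset_closure hw₁⟩ :
        ↥(Subgroup.closure (comp D v a))) * ⟨w₂, Subgroup.subset_closure hw₂⟩) from (map_mul _ _ _).symm]
      refine (orderOf_map_dvd bar _).trans ?_
      rw [← Subgroup.orderOf_coe]
      exact Subgroup.orderOf_dvd_natCard _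
        (mul_mem (left_mem_span hw₁.1.1 w₂) (right_mem_span w₁ w₂))
    haveI : Fact (Nat.Prime 2) := ⟨Nat.prime_two⟩
    obtain ⟨j, hj⟩ := (LocalP.isPGroup_pCore (G := ↥(span D w₁ w₂)) (p := 2)).exists_card_eq
    rw [Subgroup.card_eq_card_quotient_mul_card_subgroup (pCore 2 ↥(span D w₁ w₂)), hj] at hd1
    have hco : Nat.Coprime (Q - 1) (2 ^ j) := by
      refine Nat.Coprime.pow_right j (Nat.Coprime.symm ((Nat.Prime.coprime_iff_not_dvd Nat.prime_two).2 ?_))
      have : 2 ∣ Q := hQm ▸ dvd_pow_self 2 (by omega)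
      omega
    have hd2 := hco.dvd_of_dvd_mul_right hd1
    obtain ⟨k', hk', hq'⟩ := h.root_pow hw₁.1.1 hw12
    rw [rootOrder_eq h.ot h.one ha hw₁.1.1] at hq'
    set q := rootOrder D a
    have hd3 : Q - 1 ∣ q ^ 2 * (q ^ 4 - 1) := by
      refine hd2.trans ?_
      rcases span_cases h.ot h.one hl hw₁.1.1 hw12 h.pCore_eq_bot criterion with hs |
        ⟨F, hFi, hFt, hF, h4, hq, ⟨e⟩⟩
      · rw [hs.card, rootOrder_eq h.ot h.one ha hw₁.1.1, mul_assoc]
        exact Nat.mul_dvd_mul_left _ (Dvd.intro (q + 1) (pow_four_sub_one q).symm)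
      · letI := hFi; letI := hFt; haveI := hF
        rw [card_psl_even e, hq, rootOrder_eq h.ot h.one ha hw₁.1.1]
        exact Nat.mul_dvd_mul (dvd_pow_self q two_ne_zero) (sq_sub_one_dvd q)
    have hcq : Nat.Coprime (Q - 1) (q ^ 2) := by
      rw [hq', ← pow_mul]
      refine Nat.Coprime.pow_right _ (Nat.Coprime.symm ((Nat.Prime.coprime_iff_not_dvd Nat.prime_two).2 ?_))
      have : 2 ∣ Q := hQm ▸ dvd_pow_self 2 (by omega)
      omega
    have hd4 := hcq.dvd_of_dvd_mul_left hd3
    rw [hQm, hq'] at hd4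
    rw [hQm, hq']
    exact Nat.pow_le_pow_right two_pos (le_of_pow_sub_one_dvd ⟨m, rfl⟩ (by omega) hd4)
  rwa [le_antisymm h1 h2]

end Cx

end CfsgLib.RootInv99
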