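import Cfsg.Agent.RootInvolutions.NoSuzuki99.Bound

/-!
The number of members per image is the same at every point, and is `1` or `q²`.
-/

set_option autoImplicit false

universe u

namespace CfsgLib.RootInv99

open Cfsg CfsgLib.RootInv CfsgLib.RootInv.OddCommon

variable {G : Type u} [Group G] [Finite G] {D : Set G}

/-- The number of members of a component per image. -/
noncomputable def mult (D : Set G) (v : G) : ℕ :=
  (pts D v).ncard / ((rootOrder D v ^ 2 + 1) * (rootOrder D v - 1))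

namespace SC

variable {v : G} {M : Set G} (h : Cx D) (C : SC D v M)

include h C

theorem ncard_image_mul {a : G} (ha : a ∈ M)
    (P : (↥(Subgroup.closure M) ⧸ twoZCore ↥(Subgroup.closure M)) → Prop) :
    {m | ∃ hm : m ∈ M, P (img hm)}.ncard =
      (lam M (img ha)).ncard * {y | orderOf y = 2 ∧ P y}.ncard := by
  classical
  have := C.szK.finite
  letI := Fintype.ofFinite G
  letI := Fintype.ofFinite (↥(Subgroup.closure M) ⧸ twoZCore ↥(Subgroup.closure M))
  rw [Set.ncard_eq_toFinset_card', Set.ncard_eq_toFinset_card' {y | orderOf y = 2 ∧ P y},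
    Finset.card_eq_sum_card_fiberwise (t := {y | orderOf y = 2 ∧ P y}.toFinset)
      (f := fun m => if hm : m ∈ M then img hm else 1) ?_,
    Finset.sum_eq_card_nsmul (b := (lam M (img ha)).ncard) ?_, smul_eq_mul, mul_comm]
  swap
  · intro m hm
    simp only [Set.mem_toFinset, Set.mem_ofPred_eq, Finset.mem_coe] at hm ⊢
    obtain ⟨hm, hP⟩ := hm
    rw [dif_pos hm]
    exact ⟨C.orderOf_img hm, hP⟩
  · intro y hy
    simp only [Set.mem_toFinset, Set.mem_ofPred_eq] at hy
    rw [← C.ncard_lam_eq hy.1 (C.orderOf_img ha), Set.ncard_eq_toFinset_card']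
    congr 1
    ext m
    rw [Finset.mem_filter, Set.mem_toFinset, Set.mem_toFinset]
    show ((∃ hm : m ∈ M, P (img hm)) ∧ _) ↔ ∃ hm : m ∈ M, img hm = y
    constructor
    · rintro ⟨⟨hm, -⟩, he⟩
      rw [dif_pos hm] at he
      exact ⟨hm, he⟩
    · rintro ⟨hm, he⟩
      exact ⟨⟨hm, he ▸ hy.2⟩, by rw [dif_pos hm, he]⟩

theorem ncard_eq {a : G} (ha : a ∈ M) :
    M.ncard = (lam M (img ha)).ncard * ((rootOrder D v ^ 2 + 1) * (rootOrder D v - 1)) := by
  rw [← C.szK.card_invols]
  have := C.ncard_image_mul h ha (fun _ => True)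
  simpa using this

theorem ncard_fibre {a : G} (ha : a ∈ M) :
    {m | m ∈ M ∧ Commute m a}.ncard = (lam M (img ha)).ncard * (rootOrder D v - 1) := by
  rw [← C.szK.inv.invols _ (C.orderOf_img ha), ← C.ncard_image_mul h ha (fun y => Commute y (img ha))]
  congr 1
  ext m
  exact ⟨fun ⟨hm, hc⟩ => ⟨hm, (C.commute_iff hm ha).1 hc⟩,
    fun ⟨hm, hc⟩ => ⟨hm, (C.commute_iff hm ha).2 hc⟩⟩

end SC

namespace Full

variable (h : Full D) {v a b d : G}

include h

theorem rootOrder_pts (hv : v ∈ D) (hd : d ∈ D) : rootOrder D d = rootOrder D v :=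
  rootOrder_eq h.cx.ot h.cx.one hv hd

theorem ncard_pts_eq (ha : a ∈ D) (hb : b ∈ D) : (pts D a).ncard = (pts D b).ncard := by
  have key : ∀ {a b : G}, a ∈ D → b ∈ D → (pts D a).ncard ≤ (pts D b).ncard := by
    intro a b ha hb
    obtain ⟨g, rfl⟩ := h.cx.one a ha b hb
    refine Set.ncard_le_ncard_of_injOn (fun u => g * u * g⁻¹) (fun u hu => ?_)
      (fun p _ q _ e => mul_left_cancel (mul_right_cancel e)) (Set.toFinite _)
    refine ⟨h.cx.ot.1.conj_mem u hu.1 g, (Commute.conj_iff g).2 hu.2.1, fun hE => hu.2.2 ?_⟩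
    have := conj_mem_twins h.cx.ot hE g⁻¹
    simpa [mul_assoc] using this
  exact le_antisymm (key ha hb) (key hb ha)

theorem mult_eq (hv : v ∈ D) (ha : a ∈ pts D v) :
    (lam (pts D v) (img ha)).ncard = mult D v := by
  have C := h.sc v hv
  have := C.szK.eight_le
  have hpos : 0 < (rootOrder D v ^ 2 + 1) * (rootOrder D v - 1) :=
    Nat.mul_pos (Nat.succ_pos _) (by omega)
  rw [mult, C.ncard_eq h.cx ha, Nat.mul_div_cancel _ hpos]

theorem mult_const (ha : a ∈ D) (hb : b ∈ D) : mult D a = mult D b := by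
  rw [mult, mult, h.ncard_pts_eq ha hb, h.rootOrder_pts hb ha]

theorem mult_cases (hv : v ∈ D) (ha : a ∈ pts D v) :
    mult D v = 1 ∨ mult D v = rootOrder D v ^ 2 := by
  have C := h.sc v hv
  rw [← h.mult_eq hv ha]
  refine or_iff_not_imp_left.2 fun h1 => le_antisymm (h.lam_le hv ha) ?_
  have h0 : a ∈ lam (pts D v) (img ha) := ⟨ha, rfl⟩
  obtain ⟨c, hc, hne⟩ : ∃ c ∈ lam (pts D v) (img ha), c ≠ a := by
    by_contra hcon
    push Not at hcon
    exact h1 (Set.ncard_eq_one.2 ⟨a, Set.eq_singleton_iff_unique_mem.2 ⟨h0, hcon⟩⟩)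
  obtain ⟨hcM, hce⟩ := hc
  exact C.sq_le_lam h.cx ha hcM hne hce (C.orderOf_img ha)

theorem pts_nonempty (hv : v ∈ D) : (pts D v).Nonempty := by
  obtain ⟨x, hx⟩ := h.cx.exists_partner hv
  obtain ⟨w, hw, hwv, hwx⟩ := h.cx.common hv hx
  have hnc : ¬ Commute v x := not_commute_of_odd h.cx.ot.1 hv hx.1 hx.2.1.symm hx.2.2
  have h1 := h.mem_pts hnc hv hx.1 hwv.symm hwx.symm
  exact ⟨w, hw, hwv, fun hE => h1.2.2 (twins_symm hE hv)⟩

/-- A component not centralised is everything, for a set of members invariant under all. -/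
theorem eq_of_invariant {T : Set G} (hT : T ⊆ D) (hne : T.Nonempty)
    (hinv : ∀ t ∈ D, ∀ m ∈ T, t * m * t⁻¹ ∈ T) : T = D := by
  refine Set.Subset.antisymm hT fun u hu => ?_
  have hall : ∀ g : G, ∀ m ∈ T, g * m * g⁻¹ ∈ T := by
    intro g
    have hg : g ∈ Subgroup.closure D := by rw [h.cx.ot.1.generates]; trivial
    induction hg using Subgroup.closure_induction_left with
    | one => intro m hm; simpa using hm
    | mul_left t ht r _ ih =>
      intro m hm
      rw [show t * r * m * (t * r)⁻¹ = t * (r * m * r⁻¹) * t⁻¹ by group]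
      exact hinv t ht _ (ih m hm)
    | inv_mul_cancel t ht r _ ih =>
      intro m hm
      rw [inv_self h.cx.ot.1 ht, show t * r * m * (t * r)⁻¹ = t * (r * m * r⁻¹) * t⁻¹ by group]
      exact hinv t ht _ (ih m hm)
  obtain ⟨m, hm⟩ := hne
  obtain ⟨g, rfl⟩ := h.cx.one m (hT hm) u hu
  exact hall g m hm

end Full

end CfsgLib.RootInv99
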