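import Cfsg.Agent.RootInvolutions.NoSuzuki99.SzComp

/-!
The members commuting with a member having a Suzuki component are its twins and that component.
-/

set_option autoImplicit false

universe u

namespace CfsgLib.RootInv99

open Cfsg CfsgLib.RootInv CfsgLib.RootInv.OddCommon

variable {G : Type u} [Group G] [Finite G] {D : Set G}

/-- The members commuting with `p`, its twins excepted. -/
abbrev pts (D : Set G) (p : G) : Set G :=
  {u | u ∈ D ∧ Commute u p ∧ u ∉ sameCommutingClass D p}

namespace Cx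

variable (h : Cx D) {v w a b d x : G} {M : Set G}

include h

theorem flat_map (g : G) (hflat : TwoFlat (span D a b)) :
    TwoFlat (span D (g * a * g⁻¹) (g * b * g⁻¹)) := by
  refine (hflat.map (f := (MulAut.conj g).toMonoidHom) (MulAut.conj g).injective).mono ?_
  rw [MonoidHom.map_closure]
  refine Subgroup.closure_mono ?_
  rintro u (hu | rfl)
  · have h1 := conj_mem_twins h.ot hu g⁻¹
    rw [show g⁻¹ * (g * a * g⁻¹) * g⁻¹⁻¹ = a by group] at h1
    exact ⟨_, Or.inl h1, by simp [mul_assoc]⟩
  · exact ⟨b, Or.inr rfl, by simp⟩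

theorem bad_of_not_flat (ha : a ∈ D) (hb : b ∈ oddPartners D a) (hn : ¬ TwoFlat (span D a b)) :
    SzLike (↥(span D a b) ⧸ pCore 2 ↥(span D a b)) (rootOrder D a) := by
  obtain ⟨l₁, l₂, hl⟩ := h.line
  rcases span_cases h.ot h.one hl ha hb h.pCore_eq_bot criterion with hs |
    ⟨F, hFi, hFt, hF, -, -, ⟨e⟩⟩
  · exact hs
  letI := hFi; letI := hFt; haveI := hF
  refine absurd (twoFlat_iff_core.2 fun g ⟨k, hk⟩ => (QuotientGroup.eq_one_iff _).1 ?_) hn
  show QuotientGroup.mk' (pCore 2 _) (g ^ 2) = 1
  rw [map_pow]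
  exact sq_eq_one_psl e (k := k) (by rw [← map_pow, hk, map_one])

theorem comp_line (hv : v ∈ D) (ha : a ∈ D) (hav : Commute a v) (hb : b ∈ comp D v a)
    (hab : ¬ Commute a b) : ∃ c e, Line (compSet D v a) c e := by
  obtain ⟨l₁, l₂, hl⟩ := h.line
  obtain ⟨f, hf⟩ := exists_line h.ot.1 h.one hl ha
  have htw := fun {e : G} => h.twins_mem_comp hab ha hav hb hv (e := e)
  have haM := self_mem_comp ha hav
  have hfM := htw (line_twin h.ot hf)
  exact ⟨⟨a, Subgroup.subset_closure haM⟩, ⟨f, Subgroup.subset_closure hfM⟩, haM, hfM,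
    htw (line_twin h.ot (Line.third h.ot.1 hf))⟩

/-- A pair without a flat span and a common neighbour give a Suzuki component. -/
theorem exists_sc (hd : d ∈ D) (hx : x ∈ oddPartners D d) (hn : ¬ TwoFlat (span D d x))
    (hv : v ∈ D) (hdv : Commute d v) (hxv : Commute x v) :
    SC D v (comp D v d) ∧ x ∈ comp D v d := by
  have hnc : ¬ Commute x d := fun hc =>
    not_commute_of_odd h.ot.1 hd hx.1 hx.2.1.symm hx.2.2 hc.symm
  have hxM := mem_comp_of_not_commute h.ot (self_mem_comp hd hdv) hx.1 hxv hnc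
  exact ⟨h.sc_of_bad hv hd hdv hxM (fun hc => hnc hc.symm) (h.bad_of_not_flat hd hx hn), hxM⟩

/-- Everything commuting with `v` outside its twins lies in its Suzuki component. -/
theorem mem_of_commute (C : SC D v M) (hM : M.Nonempty) (hw : w ∈ D) (hwv : Commute w v) :
    w ∈ M ∨ w ∈ sameCommutingClass D v := by
  classical
  by_contra hcon
  rw [not_or] at hcon
  obtain ⟨hwM, hwE⟩ := hcon
  obtain ⟨d, hdM⟩ := hM
  obtain ⟨x, hxM, hdx⟩ := C.exists_not_commute hdM
  -- a further member commuting with `v` but not with `w`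
  obtain ⟨w', hw', hw'v, hww'⟩ : ∃ w' ∈ D, Commute w' v ∧ ¬ Commute w' w := by
    by_contra hall
    push Not at hall
    refine hwE ⟨hw, Set.eq_of_subset_of_ncard_le (fun c hc => ⟨hc.1, (hall c hc.1 hc.2).eq⟩) ?_
      (Set.toFinite _)⟩
    obtain ⟨g, rfl⟩ := h.one v C.memV w hw
    refine Set.ncard_le_ncard_of_injOn (fun u => g⁻¹ * u * g) (fun u hu => ?_) (fun p _ q _ e => ?_)
      (Set.toFinite _)
    · have h1 := (Commute.conj_iff g⁻¹).2 (show Commute u (g * v * g⁻¹) from hu.2)
      rw [inv_inv, show g⁻¹ * (g * v * g⁻¹) * g = v by group] at h1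
      have h2 := h.ot.1.conj_mem u hu.1 g⁻¹
      rw [inv_inv] at h2
      exact ⟨h2, h1.eq⟩
    · exact mul_left_cancel (mul_right_cancel e)
  have hw'M : w' ∉ M := fun hm => hwM (C.mem_of_not_commute h hm hw hwv fun hc => hww' hc.symm)
  -- the members centralising `M` in whose centraliser `M` is closed
  let T : G → Prop := fun y => y ∈ D ∧ (∀ m ∈ M, Commute y m) ∧
    ∀ m ∈ M, ∀ u ∈ D, Commute u y → ¬ Commute u m → u ∈ M
  have hTv : T v := ⟨C.memV, fun m hm => (C.mem hm).2.symm,
    fun m hm u hu huv hc => C.mem_of_not_commute h hm hu huv hc⟩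
  have hbad := C.bad h hdM hxM hdx
  have hstep : ∀ y, T y → ∀ u ∈ D, Commute u y → u ∈ M ∨ T u := by
    rintro y ⟨hy, hyM, hycl⟩ u hu huy
    by_cases huM : u ∈ M
    · exact Or.inl huM
    have hucl : ∀ m ∈ M, Commute u m := fun m hm =>
      Classical.byContradiction fun hc => huM (hycl m hm u hu huy hc)
    refine Or.inr ⟨hu, hucl, ?_⟩
    have hd' := (C.mem hdM).1
    have hxc := mem_comp_of_not_commute h.ot (self_mem_comp hd' (hucl d hdM).symm) (C.mem hxM).1
      (hucl x hxM).symm fun hc => hdx hc.symm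
    have C' := h.sc_of_bad hu hd' (hucl d hdM).symm hxc hdx hbad
    have hdc := self_mem_comp hd' (hucl d hdM).symm
    have hyC : y ∉ comp D u d := fun hy' =>
      hdx (C'.trans hy' hdc hxc (hyM d hdM) (hyM x hxM))
    intro m hm t ht htu hc
    have hmc : m ∈ comp D u d := by
      by_cases hmd : Commute m d
      · exact mem_comp_of_not_commute h.ot hxc (C.mem hm).1 (hucl m hm).symm fun hmx =>
          hdx (C.trans hm hdM hxM hmd hmx)
      · exact mem_comp_of_not_commute h.ot hdc (C.mem hm).1 (hucl m hm).symm hmd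
    have htc := mem_comp_of_not_commute h.ot hmc ht htu hc
    have hty : Commute t y := (C'.commute_outside h htc hy huy.symm hyC).symm
    by_cases htd : Commute t d
    · exact hycl x hxM t ht hty fun htx => hdx (C'.trans htc hdc hxc htd htx)
    · exact hycl d hdM t ht hty htd
  have hTw : T w := (hstep v hTv w hw hwv).resolve_left hwM
  have hTw' : T w' := (hstep v hTv w' hw' hw'v).resolve_left hw'M
  have hstepM : ∀ m ∈ M, ∀ u ∈ D, Commute u m → u ∈ M ∨ T u := by
    intro m hm u hu hum
    by_cases h1 : Commute u v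
    · exact hstep v hTv u hu h1
    by_cases h2 : Commute u w
    · exact hstep w hTw u hu h2
    by_cases h3 : Commute u w'
    · exact hstep w' hTw' u hu h3
    have hmv : Commute v m := (C.mem hm).2.symm
    have hvN := self_mem_comp (D := D) C.memV hmv
    have huN := mem_comp_of_not_commute h.ot hvN hu hum h1
    have hwN := mem_comp_of_not_commute h.ot huN hw (hTw.2.1 m hm) fun hc => h2 hc.symm
    have hw'N := mem_comp_of_not_commute h.ot huN hw' (hTw'.2.1 m hm) fun hc => h3 hc.symm
    obtain ⟨hot, hone⟩ := compSet_ot h.ot hmv C.memV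
    by_cases hconn : IsConnectedSet (CommAdj (compSet D m v)) (compSet D m v)
    swap
    · refine absurd ?_ hww'
      exact (congrArg Subtype.val (disc_trans
        ⟨hot, hone, h.comp_line (C.mem hm).1 C.memV hmv huN fun hc => h1 hc.symm, hconn, criterion⟩
        (e := (⟨v, Subgroup.subset_closure hvN⟩ : compGroup D m v))
        (g := ⟨w', Subgroup.subset_closure hw'N⟩) (q := ⟨w, Subgroup.subset_closure hwN⟩)
        hvN hw'N hwN (Subtype.ext hw'v.eq.symm) (Subtype.ext hwv.eq.symm)).eq)
    -- a Suzuki component at `m`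
    obtain ⟨g, hg⟩ := h.one v C.memV m (C.mem hm).1
    have ha : g * d * g⁻¹ ∈ D := h.ot.1.conj_mem d (C.mem hdM).1 g
    have hb : g * x * g⁻¹ ∈ oddPartners D (g * d * g⁻¹) := (mem_oddPartners_conj h.ot.1 (g := g)).2
      (h.oddPartners_of (C.mem hdM).1 (C.mem hxM).1 hdx)
    have hn : ¬ TwoFlat (span D (g * d * g⁻¹) (g * x * g⁻¹)) := fun hf => by
      have := h.flat_map g⁻¹ hf
      simp only [inv_inv, mul_assoc, inv_mul_cancel, mul_one, inv_mul_cancel_left] at this
      exact not_twoFlat_of_suzuki hbad this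
    have ham : Commute (g * d * g⁻¹) m := hg ▸ (Commute.conj_iff g).2 (C.mem hdM).2
    have hbm : Commute (g * x * g⁻¹) m := hg ▸ (Commute.conj_iff g).2 (C.mem hxM).2
    obtain ⟨S, hxS⟩ := h.exists_sc ha hb hn (C.mem hm).1 ham hbm
    have haS := self_mem_comp ha ham
    set a := g * d * g⁻¹
    set b := g * x * g⁻¹
    have hout : ∀ y ∈ comp D m a, y ∉ comp D m v := fun y hy hyN => by
      have e : comp D m a = comp D m v := (h.comp_eq hy).symm.trans (h.comp_eq hyN)
      have := S.disc
      rw [e] at this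
      exact this.dis hconn
    have hcomm : ∀ y ∈ comp D m a, ∀ z ∈ comp D m v, Commute y z := fun y hy z hz =>
      h.commute_of_outside hz hy.1.1 hy.1.2 (hout y hy)
    have hab : ¬ Commute a b := not_commute_of_odd h.ot.1 ha hb.1 hb.2.1.symm hb.2.2
    have key : ∀ y ∈ comp D m a, y ∈ M ∨ (u ∈ M ∨ T u) := fun y hy => by
      rcases hstep v hTv y hy.1.1 (hcomm y hy v hvN) with h' | h'
      · exact Or.inl h'
      · exact Or.inr (hstep y h' u hu (hcomm y hy u huN).symm)
    rcases key a haS with haM | hr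
    swap
    · exact hr
    rcases key b hxS with hbM | hr
    swap
    · exact hr
    exact absurd (C.trans hm haM hbM ham.symm hbm.symm) hab
  have hall : ∀ y ∈ D, y ∈ M ∨ T y := by
    intro y hy
    have hpath := h.conn v C.memV y hy
    induction hpath with
    | refl => exact Or.inr hTv
    | tail _ hbc ih =>
      rcases ih hbc.1 with hb' | hb'
      · exact hstepM _ hb' _ hbc.2.1 hbc.2.2.2.symm
      · exact hstep _ hb' _ hbc.2.1 hbc.2.2.2.symm
  -- `M` is invariant, hence contains `v`
  have hinv : ∀ g : G, ∀ m ∈ M, g * m * g⁻¹ ∈ M := by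
    intro g
    have hg : g ∈ Subgroup.closure D := by rw [h.ot.1.generates]; trivial
    induction hg using Subgroup.closure_induction with
    | mem t ht =>
      intro m hm
      rcases hall t ht with htM | htT
      · exact C.conj_mem (Subgroup.subset_closure htM) hm
      · rwa [(htT.2.1 m hm).eq, mul_inv_cancel_right]
    | one => intro m hm; simpa using hm
    | mul p r _ _ hp hr =>
      intro m hm
      rw [show p * r * m * (p * r)⁻¹ = p * (r * m * r⁻¹) * p⁻¹ by group]
      exact hp _ (hr m hm)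
    | inv p _ hp =>
      intro m hm
      have hinj : Set.InjOn (fun m => p * m * p⁻¹) M :=
        fun _ _ _ _ e => mul_left_cancel (mul_right_cancel e)
      obtain ⟨n, hn, hne⟩ := (((Set.toFinite M).injOn_iff_bijOn_of_mapsTo hp).mp hinj).surjOn hm
      rw [← hne]
      simpa [mul_assoc] using hn
  obtain ⟨g, hg⟩ := h.one d (C.mem hdM).1 v C.memV
  have hvM : v ∈ M := hg ▸ hinv g d hdM
  obtain ⟨y, hy, hvy⟩ := C.exists_not_commute hvM
  exact hvy (C.mem hy).2.symm

/-- The component is the set of all members commuting with `v` other than its twins. -/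
theorem eq_pts (C : SC D v M) (hM : M.Nonempty) : M = pts D v := by
  ext u
  refine ⟨fun hu => ⟨(C.mem hu).1, (C.mem hu).2, fun hE => ?_⟩,
    fun hu => (h.mem_of_commute C hM hu.1 hu.2.1).resolve_right hu.2.2⟩
  obtain ⟨y, hy, huy⟩ := C.exists_not_commute hu
  exact huy ((same_commute_iff hE (C.mem hy).1).1 (C.mem hy).2).symm

/-- One span that is not flat gives every member a Suzuki component. -/
theorem sc_all (hd : d ∈ D) (hx : x ∈ oddPartners D d) (hn : ¬ TwoFlat (span D d x)) {p : G}
    (hp : p ∈ D) : SC D p (pts D p) ∧ (pts D p).Nonempty := by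
  obtain ⟨v, hv, hvd, hvx⟩ := h.common hd hx
  obtain ⟨g, rfl⟩ := h.one v hv p hp
  have hn' : ¬ TwoFlat (span D (g * d * g⁻¹) (g * x * g⁻¹)) := fun hf => by
    have := h.flat_map g⁻¹ hf
    simp only [inv_inv, mul_assoc, inv_mul_cancel, mul_one, inv_mul_cancel_left] at this
    exact hn this
  obtain ⟨S, -⟩ := h.exists_sc (h.ot.1.conj_mem d hd g) ((mem_oddPartners_conj h.ot.1 (g := g)).2 hx)
    hn' hp ((Commute.conj_iff g).2 hvd.symm) ((Commute.conj_iff g).2 hvx.symm)
  have hne : (comp D (g * v * g⁻¹) (g * d * g⁻¹)).Nonempty :=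
    ⟨_, self_mem_comp (h.ot.1.conj_mem d hd g) ((Commute.conj_iff g).2 hvd.symm)⟩
  exact ⟨h.eq_pts S hne ▸ S, h.eq_pts S hne ▸ hne⟩

end Cx

/-- A minimal configuration with a span that is not flat: every member has a Suzuki component. -/
structure Full (D : Set G) : Prop where
  cx : Cx D
  sc : ∀ p ∈ D, SC D p (pts D p)

namespace Full

variable (h : Full D) {a b v : G}

include h

theorem mem_pts (hab : ¬ Commute a b) (ha : a ∈ D) (hb : b ∈ D) (hav : Commute a v)
    (hbv : Commute b v) : a ∈ pts D v :=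
  ⟨ha, hav, fun hE => hab ((same_commute_iff hE hb).1 hbv).symm⟩

end Full

end CfsgLib.RootInv99
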