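import Cfsg.Agent.RootInvolutions.NoSuzuki99.Models
import Cfsg.Agent.RootInvolutions.FromCriterion99

/-!
Subgroups without elements of order four modulo their 2-core, and the trichotomy for `⟨E_d, x⟩`.
-/

set_option autoImplicit false

universe u

namespace CfsgLib.RootInv99

open Cfsg CfsgLib.RootInv

variable {G : Type u} [Group G]

/-- Modulo a normal 2-subgroup the 2-elements of `X` square to one. -/
def TwoFlat (X : Subgroup G) : Prop :=
  ∃ N : Subgroup G, N ≤ X ∧ (∀ x ∈ X, ∀ n ∈ N, x * n * x⁻¹ ∈ N) ∧ IsPGroup 2 N ∧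
    ∀ g ∈ X, (∃ k : ℕ, g ^ 2 ^ k = 1) → g ^ 2 ∈ N

theorem TwoFlat.mono {X Y : Subgroup G} (h : TwoFlat X) (hle : Y ≤ X) : TwoFlat Y := by
  obtain ⟨N, hNX, hn, hp, hsq⟩ := h
  exact ⟨N ⊓ Y, inf_le_right, fun x hx n hn' => ⟨hn x (hle hx) n hn'.1,
    Y.mul_mem (Y.mul_mem hx hn'.2) (Y.inv_mem hx)⟩, hp.to_le inf_le_left,
    fun g hg hk => ⟨hsq g (hle hg) hk, pow_mem hg 2⟩⟩

theorem TwoFlat.map {H : Type u} [Group H] {X : Subgroup H} (h : TwoFlat X) {f : H →* G}
    (hf : Function.Injective f) : TwoFlat (X.map f) := by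
  obtain ⟨N, hNX, hn, hp, hsq⟩ := h
  refine ⟨N.map f, Subgroup.map_mono hNX, ?_, hp.map f, ?_⟩
  · rintro _ ⟨x, hx, rfl⟩ _ ⟨n, hn', rfl⟩
    exact ⟨x * n * x⁻¹, hn x hx n hn', by simp⟩
  · rintro _ ⟨x, hx, rfl⟩ ⟨k, hk⟩
    exact ⟨x ^ 2, hsq x hx ⟨k, hf (by simpa using hk)⟩, map_pow f x 2⟩

theorem twoFlat_iff_core [Finite G] {X : Subgroup G} :
    TwoFlat X ↔ ∀ g : ↥X, (∃ k : ℕ, g ^ 2 ^ k = 1) → g ^ 2 ∈ pCore 2 ↥X := by
  have : Fact (Nat.Prime 2) := ⟨Nat.prime_two⟩
  constructor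
  · rintro ⟨N, hNX, hn, hp, hsq⟩ g ⟨k, hk⟩
    have hN : (N.subgroupOf X).Normal := ⟨fun n hn' x => hn x x.2 n hn'⟩
    exact LocalP.le_pCore hN (hp.of_equiv (Subgroup.subgroupOfEquivOfLe hNX).symm)
      (show g ^ 2 ∈ N.subgroupOf X from hsq g g.2 ⟨k, congrArg Subtype.val hk⟩)
  · intro h
    refine ⟨(pCore 2 ↥X).map X.subtype, Subgroup.map_subtype_le _, ?_,
      LocalP.isPGroup_pCore.map _, fun g hg ⟨k, hk⟩ => ?_⟩
    · rintro x hx _ ⟨n, hn, rfl⟩
      exact ⟨_, (inferInstance : (pCore 2 ↥X).Normal).conj_mem n hn ⟨x, hx⟩, rfl⟩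
    · exact ⟨_, h ⟨g, hg⟩ ⟨k, Subtype.ext hk⟩, rfl⟩

variable [Finite G]

/-- Lifting a 2-element through a quotient by a 2-group. -/
theorem isTwoElement_of_image {f : G →* G ⧸ pCore 2 G} (hf : f = QuotientGroup.mk' _) {g : G}
    (h : ∃ k : ℕ, f g ^ 2 ^ k = 1) : ∃ k : ℕ, g ^ 2 ^ k = 1 := by
  have : Fact (Nat.Prime 2) := ⟨Nat.prime_two⟩
  obtain ⟨k, hk⟩ := h
  subst hf
  rw [← map_pow] at hk
  obtain ⟨l, hl⟩ := LocalP.isPGroup_pCore (G := G) (p := 2)
    ⟨_, (QuotientGroup.eq_one_iff _).mp hk⟩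
  exact ⟨k + l, by rw [pow_add, pow_mul]; exact congrArg Subtype.val hl⟩

theorem not_twoFlat_of_suzuki {X : Subgroup G} {q : ℕ} (h : SzLike (↥X ⧸ pCore 2 ↥X) q) :
    ¬ TwoFlat X := fun hflat => by
  have : Fact (Nat.Prime 2) := ⟨Nat.prime_two⟩
  obtain ⟨a, -, ha, -, -⟩ := h.torus
  obtain ⟨t, -, ht⟩ := h.four a ha
  obtain ⟨g, rfl⟩ := QuotientGroup.mk'_surjective _ t
  have h4 := pow_orderOf_eq_one (QuotientGroup.mk' (pCore 2 ↥X) g)
  rw [ht] at h4
  have h2 := twoFlat_iff_core.1 hflat g (isTwoElement_of_image rfl ⟨2, h4⟩)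
  have h2' : QuotientGroup.mk' (pCore 2 ↥X) (g ^ 2) = 1 := (QuotientGroup.eq_one_iff _).2 h2
  rw [map_pow] at h2'
  have := Nat.le_of_dvd two_pos (orderOf_dvd_of_pow_eq_one h2')
  omega

/-- A solvable kernel lies in the 2-core below a non-solvable simple quotient. -/
theorem ker_le_core [IsSimpleGroup (G ⧸ pCore 2 G)] (hns : ¬ Group.IsSolvable (G ⧸ pCore 2 G))
    {K : Type*} [Group K] (f : G →* K) [Group.IsSolvable f.ker] : f.ker ≤ pCore 2 G := by
  set π := QuotientGroup.mk' (pCore 2 G)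
  rcases ((inferInstance : f.ker.Normal).map π (QuotientGroup.mk'_surjective _)).eq_bot_or_eq_top with
    h' | h'
  · intro x hx
    exact (QuotientGroup.eq_one_iff x).1 (Subgroup.mem_bot.1 (h' ▸ Subgroup.mem_map_of_mem π hx))
  refine absurd (Group.isSolvable_of_surjective (f := (π.comp f.ker.subtype)) fun y => ?_) hns
  obtain ⟨x, hx, rfl⟩ := (h' ▸ Subgroup.mem_top y : y ∈ f.ker.map π)
  exact ⟨⟨x, hx⟩, rfl⟩

theorem SzLike.not_solvable {K : Type*} [Group K] {q : ℕ} (h : SzLike K q) :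
    ¬ Group.IsSolvable K := fun hsol => by
  have := h.simple
  obtain ⟨a, b, ha, hb, hab⟩ := h.torus
  have hcomm : ∀ y z : K, y * z = z * y := (IsSimpleGroup.comm_iff_isSolvable).2 hsol
  have ha2 := pow_orderOf_eq_one a
  have hb2 := pow_orderOf_eq_one b
  rw [ha] at ha2
  rw [hb] at hb2
  have h2 : (a * b) ^ 2 = 1 := by
    rw [(show Commute a b from hcomm a b).mul_pow, ha2, hb2, one_mul]
  have h3 := Nat.le_of_dvd two_pos (orderOf_dvd_of_pow_eq_one h2)
  have := h.eight_le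
  omega

/-- A Suzuki group keeps its elements of order four in an image with solvable kernel. -/
theorem exists_image_four {K : Type*} [Group K] {q : ℕ} (h : SzLike (G ⧸ pCore 2 G) q) (f : G →* K)
    [Group.IsSolvable f.ker] : ∃ g : G, (∃ k : ℕ, g ^ 2 ^ k = 1) ∧ f g ^ 2 ≠ 1 := by
  obtain ⟨a, -, ha, -, -⟩ := h.torus
  obtain ⟨t, -, ht⟩ := h.four a ha
  obtain ⟨g, rfl⟩ := QuotientGroup.mk'_surjective _ t
  have h4 := pow_orderOf_eq_one (QuotientGroup.mk' (pCore 2 G) g)
  rw [ht] at h4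
  have := h.simple
  refine ⟨g, isTwoElement_of_image rfl ⟨2, h4⟩, fun h2 => ?_⟩
  rw [← map_pow] at h2
  have h2' : QuotientGroup.mk' (pCore 2 G) (g ^ 2) = 1 :=
    (QuotientGroup.eq_one_iff _).2 (ker_le_core h.not_solvable f (MonoidHom.mem_ker.2 h2))
  rw [map_pow] at h2'
  have := Nat.le_of_dvd two_pos (orderOf_dvd_of_pow_eq_one h2')
  omega

/-- A dihedral group with trivial 2-core has odd degree. -/
theorem dihedral_even_false {Y : Type*} [Group Y] [Finite Y] {n : ℕ} (e : Y ≃* DihedralGroup n)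
    (hn : Even n) (hcore : pCore 2 Y = ⊥) : False := by
  have : Fact (Nat.Prime 2) := ⟨Nat.prime_two⟩
  obtain ⟨j, hj⟩ := hn
  have hn0 : n ≠ 0 := fun h0 => by
    have := (Nat.card_congr e.toEquiv).symm
    rw [DihedralGroup.nat_card, h0, mul_zero] at this
    exact Nat.card_pos.ne this
  -- the central rotation generates a normal 2-subgroup
  set z := e.symm (DihedralGroup.r (j : ZMod n))
  have hjj : (j : ZMod n) + (j : ZMod n) = 0 := by rw [← Nat.cast_add, ← hj, ZMod.natCast_self]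
  have hcz : z ∈ Subgroup.center _ := by
    rw [Subgroup.mem_center_iff]
    intro w
    refine e.injective ?_
    simp only [z, map_mul, MulEquiv.apply_symm_apply]
    rcases e w with i | i
    · simp [add_comm]
    · simp only [DihedralGroup.sr_mul_r, DihedralGroup.r_mul_sr, sub_eq_add_neg,
        ← eq_neg_of_add_eq_zero_left hjj]
  have hle := Subgroup.zpowers_le.2 hcz
  have hnorm : (Subgroup.zpowers z).Normal := ⟨fun w hw g => by
    rw [Subgroup.mem_center_iff.1 (hle hw) g, mul_inv_cancel_right]; exact hw⟩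
  have h2 : z ^ 2 = 1 := e.injective (by
    rw [map_pow, map_one, show e z = DihedralGroup.r (j : ZMod n) from e.apply_symm_apply _, pow_two,
      DihedralGroup.r_mul_r, hjj, DihedralGroup.r_zero])
  have hp : IsPGroup 2 (Subgroup.zpowers z) := fun w => ⟨1, Subtype.ext (by
    obtain ⟨w, i, rfl⟩ := w
    simp only [pow_one, SubgroupClass.coe_pow, OneMemClass.coe_one]
    rw [← zpow_natCast, ← zpow_mul, mul_comm, zpow_mul, zpow_natCast, h2, one_zpow])⟩
  have := LocalP.le_pCore hnorm hp (Subgroup.mem_zpowers z)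
  rw [hcore, Subgroup.mem_bot] at this
  have h0 : (j : ZMod n) = 0 := by
    have := congrArg e this
    rw [map_one, DihedralGroup.one_def, show e z = DihedralGroup.r (j : ZMod n) from
      e.apply_symm_apply _] at this
    exact DihedralGroup.r.inj this
  rw [ZMod.natCast_eq_zero_iff] at h0
  have := Nat.le_of_dvd (by omega) h0
  omega

/-- The twins and an odd partner generate a flat group or a Suzuki group modulo the 2-core. -/
theorem flat_or_suzuki (hc : RankOneBN.Criterion.{u}) {D : Set G} (hD : IsOddTranspositionSet D)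
    {d x : G} (hd : d ∈ D) (hx : x ∈ oddPartners D d) :
    TwoFlat (Subgroup.closure (sameCommutingClass D d ∪ {x})) ∨
      ∃ q, SzLike (↥(Subgroup.closure (sameCommutingClass D d ∪ {x})) ⧸
        pCore 2 ↥(Subgroup.closure (sameCommutingClass D d ∪ {x}))) q := by
  have : Fact (Nat.Prime 2) := ⟨Nat.prime_two⟩
  have key : (∀ y : ↥(Subgroup.closure (sameCommutingClass D d ∪ {x})) ⧸
      pCore 2 ↥(Subgroup.closure (sameCommutingClass D d ∪ {x})), ∀ k : ℕ, y ^ 2 ^ k = 1 → y ^ 2 = 1) →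
      TwoFlat (Subgroup.closure (sameCommutingClass D d ∪ {x})) := fun h =>
    twoFlat_iff_core.2 fun g ⟨k, hk⟩ => (QuotientGroup.eq_one_iff _).1 (by
      show QuotientGroup.mk' (pCore 2 _) (g ^ 2) = 1
      rw [map_pow]
      exact h _ k (by rw [← map_pow, hk, map_one]))
  rcases recognise_of_criterion hc hD hd hx with
    ⟨F, hFi, hFt, hF, -, ⟨e⟩⟩ | h | ⟨n, ⟨e⟩⟩
  · letI := hFi; letI := hFt; haveI := hF
    exact Or.inl (key fun y k hy => sq_eq_one_psl e hy)
  · exact Or.inr (szLike_of_iso h)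
  refine Or.inl (key fun y k hy => ?_)
  obtain ⟨-, -, -, -, -, -, -, -, hcore⟩ := exists_reduced hD hd hx
  have hodd : Odd n := by
    by_contra hn
    rw [Nat.not_odd_iff_even] at hn
    exact dihedral_even_false e hn hcore
  refine e.injective ?_
  rw [map_pow, map_one]
  have hy' : e y ^ 2 ^ k = 1 := by rw [← map_pow, hy, map_one]
  rcases h' : e y with i | i
  · rw [h'] at hy'
    have h1 : orderOf (DihedralGroup.r i) = 1 := by
      obtain ⟨l, -, hl⟩ := (Nat.dvd_prime_pow Nat.prime_two).1 (orderOf_dvd_of_pow_eq_one hy')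
      have hdvd : orderOf (DihedralGroup.r i) ∣ n := orderOf_dvd_of_pow_eq_one (by simp)
      rw [hl] at hdvd ⊢
      rcases l with - | l
      · rfl
      · exact absurd ((dvd_pow_self 2 l.succ_ne_zero).trans hdvd)
          (by rw [Nat.two_dvd_ne_zero]; exact Nat.odd_iff.1 hodd)
    rw [orderOf_eq_one_iff.1 h1, one_pow]
  · rw [pow_two, DihedralGroup.sr_mul_sr, sub_self, DihedralGroup.one_def]

section Unitary

open CfsgLib.Unitary Matrix

variable {F : Type*} [Field F] [Fintype F] [CharP F 2] {q : ℕ}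

/-- In `U₃(q)`, `q` even, commuting involutions and one further involution outside their centraliser
generate a group whose 2-elements square to one. -/
theorem psu_three_flat (hF : Fintype.card F = q ^ 2) {E : Set (PSU 3 F q)}
    (hE2 : ∀ e ∈ E, e * e = 1) (hcomm : ∀ e ∈ E, ∀ f ∈ E, Commute e f) {e : PSU 3 F q} (he : e ∈ E)
    {x : PSU 3 F q} (hx : x * x = 1) (hex : ¬ Commute e x) {y : PSU 3 F q}
    (hy : y ∈ Subgroup.closure (E ∪ {x})) (hy2 : ∃ k : ℕ, y ^ 2 ^ k = 1) : y ^ 2 = 1 := by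
  set Z := Subgroup.center ↥(SU 3 F q) with hZ
  set π := QuotientGroup.mk' Z with hπ
  have hZodd : Odd (Nat.card Z) := by
    rw [hZ, card_center_SU hF (by norm_num)]
    exact Odd.of_dvd_nat (by decide : Odd 3) (Nat.gcd_dvd_left _ _)
  have hpc : ∀ s : ↥(SU 3 F q), ∀ n : ℕ, π s ^ n = 1 → (s ^ Nat.card Z) ^ n = 1 := by
    intro s n hn
    rw [← map_pow] at hn
    have := congrArg Subtype.val (pow_card_eq_one' (x := (⟨_, (QuotientGroup.eq_one_iff _).1 hn⟩ : Z)))
    rw [← pow_mul, mul_comm, pow_mul]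
    exact this
  -- elements of 2-power order lift
  have lift : ∀ z : PSU 3 F q, ∀ k : ℕ, z ^ 2 ^ k = 1 →
      ∃ s : ↥(SU 3 F q), s ^ 2 ^ k = 1 ∧ π s ∈ Subgroup.zpowers z ∧ z ∈ Subgroup.zpowers (π s) := by
    intro z k hz
    obtain ⟨s, rfl⟩ := QuotientGroup.mk'_surjective Z z
    refine ⟨s ^ Nat.card Z, hpc s _ hz, ?_, ?_⟩
    · rw [map_pow]; exact Subgroup.npow_mem_zpowers _ _
    · rw [map_pow]
      have hco : (orderOf (π s)).Coprime (Nat.card Z) := by
        obtain ⟨l, -, hl⟩ := (Nat.dvd_prime_pow Nat.prime_two).1 (orderOf_dvd_of_pow_eq_one hz)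
        rw [hl]
        exact Nat.Coprime.pow_left _ hZodd.coprime_two_left
      exact mem_zpowers_pow_iff.2 hco.symm
  have lift2 : ∀ z : PSU 3 F q, z * z = 1 → ∃ s : ↥(SU 3 F q), s * s = 1 ∧ π s = z := by
    intro z hz
    obtain ⟨s, hs, hsz, -⟩ := lift z 1 (by rw [pow_one, pow_two, hz])
    rw [pow_one, pow_two] at hs
    obtain ⟨s', rfl⟩ := QuotientGroup.mk'_surjective Z z
    refine ⟨s' ^ Nat.card Z, ?_, ?_⟩
    · rw [← pow_two]; exact hpc s' 2 (by rw [pow_two, hz])
    · obtain ⟨j, hj⟩ := hZodd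
      rw [map_pow, hj, pow_succ, pow_mul, pow_two, hz, one_pow, one_mul]
  have hcl : ∀ s t : ↥(SU 3 F q), s * s = 1 → t * t = 1 → Commute (π s) (π t) → Commute s t := by
    intro s t hs ht hc
    have hs' : π s * π s = 1 := by rw [← map_mul, hs, map_one]
    have ht' : π t * π t = 1 := by rw [← map_mul, ht, map_one]
    have h1 := hpc (s * t) 2 (by
      rw [map_mul, hc.mul_pow, pow_two, pow_two, hs', ht', one_mul])
    obtain ⟨j, hj⟩ := hZodd
    have hi : (s * t)⁻¹ = t * s := by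
      rw [_root_.mul_inv_rev, inv_eq_of_mul_eq_one_right ht, inv_eq_of_mul_eq_one_right hs]
    have h2 : (s * t) ^ 2 ∈ Z := by
      refine (QuotientGroup.eq_one_iff _).1 ?_
      show π ((s * t) ^ 2) = 1
      rw [map_pow, map_mul, hc.mul_pow, pow_two, pow_two, hs', ht', one_mul]
    have h3 : ((s * t) ^ 2) ^ 2 = 1 := by
      have h4 : s * (s * t) ^ 2 * s⁻¹ = ((s * t) ^ 2)⁻¹ := by
        rw [← conj_pow, ← inv_pow, hi, inv_eq_of_mul_eq_one_right hs, ← mul_assoc s s, hs, one_mul]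
      rw [Subgroup.mem_center_iff.1 h2 s, mul_inv_cancel_right] at h4
      rw [pow_two ((s * t) ^ 2)]
      nth_rewrite 1 [h4]
      exact inv_mul_cancel _
    have h5 : (s * t) ^ 2 = 1 := by
      refine RootInv.eq_one_of_sq_of_odd (by rw [← pow_two]; exact h3) ?_
      refine Odd.of_dvd_nat ⟨j, hj⟩ ?_
      rw [← Subgroup.orderOf_mk _ h2]
      exact orderOf_dvd_natCard _
    show s * t = t * s
    rw [← hi, eq_inv_iff_mul_eq_one, ← pow_two, h5]
  obtain ⟨s, hs, hse⟩ := lift2 e (hE2 e he)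
  have hs1 : s ≠ 1 := fun h => hex (by rw [← hse, h, map_one]; exact Commute.one_left x)
  obtain ⟨v, c, hv, hv0, hc0, hsv⟩ := exists_transv_of_involution hF s hs hs1
  obtain ⟨tx, htx, htxe⟩ := lift2 x hx
  have htx1 : tx ≠ 1 := fun h => hex (by rw [← htxe, h, map_one]; exact Commute.one_right e)
  obtain ⟨w, d, hw, hw0, hd0, hxv⟩ := exists_transv_of_involution hF tx htx htx1
  obtain ⟨p, hp0, hpv, hpw⟩ : ∃ p : Fin 3 → F, p ≠ 0 ∧ hermForm 3 F q p v = 0 ∧
      hermForm 3 F q p w = 0 := by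
    let L : (Fin 3 → F) →ₗ[F] (Fin 2 → F) := LinearMap.pi fun i => hermLeft q (![v, w] i)
    have hlt : Module.finrank F (Fin 2 → F) < Module.finrank F (Fin 3 → F) := by simp
    obtain ⟨p, hp, hp0⟩ :=
      Submodule.exists_mem_ne_zero_of_ne_bot (LinearMap.ker_ne_bot_of_finrank_lt (f := L) hlt)
    rw [LinearMap.mem_ker] at hp
    exact ⟨p, hp0, congrFun hp 0, congrFun hp 1⟩
  -- an isotropic vector orthogonal to `v` is a multiple of it
  have hmul : ∀ u : Fin 3 → F, hermForm 3 F q u u = 0 → hermForm 3 F q u v = 0 →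
      ∃ l : F, u = l • v := by
    intro u hu hgv
    obtain ⟨f, -, hf, hvf⟩ := exists_partner hF (isNondeg_top hF) trivial hv0 hv
    have hfv : hermForm 3 F q f v = 1 := by rw [herm_conj hF, hvf, one_pow]
    refine ⟨hermForm 3 F q u f, ?_⟩
    by_contra hne
    set r := u - hermForm 3 F q u f • v with hr
    have hr0 : r ≠ 0 := fun h => hne (sub_eq_zero.1 h)
    have hvu := herm_eq_zero_comm hF hgv
    have hrr : hermForm 3 F q r r = 0 := by
      simp only [hr, herm_sub_left, herm_sub_right hF, herm_smul_left, herm_smul_right, hu, hv, hgv, hvu]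
      ring
    have hrv : hermForm 3 F q r v = 0 := by
      simp only [hr, herm_sub_left, herm_smul_left, hv, hgv]; ring
    have hrf : hermForm 3 F q r f = 0 := by
      simp only [hr, herm_sub_left, herm_smul_left, hvf]; ring
    have hli : LinearIndependent F ![v, f, r] := by
      rw [Fintype.linearIndependent_iff]
      intro g hg
      simp only [Fin.sum_univ_three, Matrix.cons_val] at hg
      have e1 := congrArg (fun y => hermForm 3 F q y v) hg
      have e2 := congrArg (fun y => hermForm 3 F q y f) hg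
      simp only [herm_add_left, herm_smul_left, herm_zero_left, hv, hfv, hrv, hvf, hf, hrf, mul_zero,
        mul_one, add_zero, zero_add] at e1 e2
      rw [e1, e2, zero_smul, zero_smul, zero_add, zero_add, smul_eq_zero, or_iff_left hr0] at hg
      intro i; fin_cases i <;> assumption
    have hspan : Submodule.span F (Set.range ![v, f, r]) = ⊤ :=
      Submodule.eq_top_of_finrank_eq (by rw [finrank_span_eq_card hli]; simp)
    refine hr0 (herm_nondeg hF r fun y => ?_)
    obtain ⟨a, rfl⟩ := (Submodule.mem_span_range_iff_exists_fun F).1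
      (hspan ▸ Submodule.mem_top : y ∈ Submodule.span F (Set.range ![v, f, r]))
    simp [Fin.sum_univ_three, herm_add_right hF, herm_smul_right, hrr, hrv, hrf]
  -- the common fixed vector is not isotropic
  have hpp : hermForm 3 F q p p ≠ 0 := by
    intro hpp
    obtain ⟨l, hl⟩ := hmul p hpp hpv
    have hl0 : l ≠ 0 := fun h => hp0 (by rw [hl, h, zero_smul])
    rw [hl, herm_smul_left, mul_eq_zero, or_iff_right hl0] at hpw
    obtain ⟨r, hr⟩ := hmul w hw (herm_eq_zero_comm hF hpw)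
    refine hex ?_
    rw [← hse, ← htxe]
    refine (show Commute s tx from sv_ext fun z => ?_).map π
    simp only [sv_mul, hxv, hsv, hr, herm_add_left, herm_smul_left, herm_smul_right, hv,
      smul_smul, mul_zero, add_zero]
    abel
  have hfixE : ∀ g : ↥(SU 3 F q), g * g = 1 → π g ∈ E → sv g p = p := by
    intro g hg hgE
    have hgv := fix_of_commute hF hg (hcl s g hs hg (hse ▸ hcomm e he _ hgE)) hv hv0 hc0 hsv
    by_cases h1 : g = 1
    · rw [h1, sv_one]
    obtain ⟨u, a, hu, hu0, ha, hga⟩ := exists_transv_of_involution hF g hg h1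
    rw [hga, add_eq_left, smul_eq_zero, or_iff_left hu0, mul_eq_zero, or_iff_right ha] at hgv
    obtain ⟨l, hl⟩ := hmul u hu (herm_eq_zero_comm hF hgv)
    rw [hga, hl, herm_smul_right, hpv, mul_zero, mul_zero, zero_smul, add_zero]
  let P : Subgroup ↥(SU 3 F q) :=
    { carrier := {g | ∃ l : F, l ≠ 0 ∧ sv g p = l • p}
      one_mem' := ⟨1, one_ne_zero, by rw [sv_one, one_smul]⟩
      mul_mem' := fun {a b} ⟨l, hl, ha⟩ ⟨m, hm, hb⟩ => ⟨m * l, mul_ne_zero hm hl, by
        rw [sv_mul, hb, sv_smul, ha, smul_smul]⟩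
      inv_mem' := fun {a} ⟨l, hl, ha⟩ => ⟨l⁻¹, inv_ne_zero hl, by
        have h := congrArg (sv a⁻¹) ha
        rw [sv_inv_sv, sv_smul] at h
        exact (eq_inv_smul_iff₀ hl).mpr h.symm⟩ }
  have hZP : Z ≤ P := by
    intro z hz
    obtain ⟨l, hl⟩ := (mem_center_SU_iff hF (by norm_num) z).mp hz
    refine ⟨l, fun h0 => ?_, ?_⟩
    · have hd := z.1.2
      rw [hl, h0] at hd
      simp [Matrix.det_diagonal] at hd
    · show ((z : Matrix.SpecialLinearGroup (Fin 3) F) : Matrix (Fin 3) (Fin 3) F).mulVec p = _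
      rw [hl]
      ext i
      simp [Matrix.mulVec_diagonal]
  have hle : Subgroup.closure (E ∪ {x}) ≤ P.map π := by
    rw [Subgroup.closure_le]
    rintro z (hz | rfl)
    · obtain ⟨g, hg, rfl⟩ := lift2 z (hE2 z hz)
      exact ⟨g, ⟨1, one_ne_zero, by rw [one_smul, hfixE g hg hz]⟩, rfl⟩
    · exact ⟨tx, ⟨1, one_ne_zero, by rw [one_smul, hxv, hpw, mul_zero, zero_smul, add_zero]⟩, htxe⟩
  obtain ⟨k, hk⟩ := hy2
  obtain ⟨g, hg2, hgy, hyg⟩ := lift y k hk
  obtain ⟨g', hg', hgg⟩ := Subgroup.zpowers_le.2 (hle hy) hgy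
  have hgP : g ∈ P := by
    have hz : g'⁻¹ * g ∈ Z := by
      refine (QuotientGroup.eq_one_iff _).mp ?_
      show π (g'⁻¹ * g) = 1
      rw [map_mul, map_inv, hgg, inv_mul_cancel]
    have := mul_mem hg' (hZP hz)
    rwa [mul_inv_cancel_left] at this
  obtain ⟨l, hl0, hl⟩ := hgP
  -- the matrix minus one is nilpotent on the plane orthogonal to `p`
  set A := ((g : Matrix.SpecialLinearGroup (Fin 3) F) : Matrix (Fin 3) (Fin 3) F) with hA
  set N := A - 1 with hN
  have hA2 : A ^ 2 ^ k = 1 := by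
    have := congrArg (fun s : ↥(SU 3 F q) =>
      ((s : Matrix.SpecialLinearGroup (Fin 3) F) : Matrix (Fin 3) (Fin 3) F)) hg2
    simpa using this
  have hNk : N ^ 2 ^ k = 0 := by
    rw [hN, sub_pow_char_pow_of_commute 2 k (Commute.one_right _), one_pow, hA2, sub_self]
  have hNmul : ∀ z, N *ᵥ z = sv g z - z := fun z => by
    rw [hN, Matrix.sub_mulVec, Matrix.one_mulVec]; rfl
  have hNp : N *ᵥ p = (l - 1) • p := by rw [hNmul, hl, sub_smul, one_smul]
  have hpow : ∀ j : ℕ, N ^ j *ᵥ p = (l - 1) ^ j • p := by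
    intro j
    induction j with
    | zero => simp
    | succ j ih => rw [pow_succ', ← Matrix.mulVec_mulVec, ih, Matrix.mulVec_smul, hNp, smul_smul,
        ← pow_succ]
  have hl1 : l = 1 := by
    have := hpow (2 ^ k)
    rw [hNk, Matrix.zero_mulVec] at this
    exact sub_eq_zero.1 (pow_eq_zero_iff (by positivity) |>.1
      ((smul_eq_zero.1 this.symm).resolve_right hp0))
  rw [hl1, sub_self, zero_smul] at hNp
  let W : Submodule F (Fin 3 → F) := LinearMap.ker (hermLeft q p)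
  have hW : ∀ z, z ∈ W ↔ hermForm 3 F q z p = 0 := fun z => LinearMap.mem_ker
  have hWd : Module.finrank F W ≤ 2 := by
    have h1 := Submodule.finrank_lt (s := W) (fun h => hpp ((hW p).1 (h ▸ Submodule.mem_top)))
    rw [Module.finrank_fintype_fun_eq_card, Fintype.card_fin] at h1
    omega
  have hNW : ∀ z ∈ W, N.mulVecLin z ∈ W := by
    intro z hz
    rw [Matrix.mulVecLin_apply, hNmul, hW, herm_sub_left]
    have : hermForm 3 F q (sv g z) p = hermForm 3 F q (sv g z) (sv g p) := by rw [hl, hl1, one_smul]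
    rw [this, sv_herm, sub_self]
  set R := N.mulVecLin.restrict hNW with hR
  have hRn : IsNilpotent R := ⟨2 ^ k, by
    rw [hR, Module.End.pow_restrict _ hNW]
    refine LinearMap.ext fun z => Subtype.ext ?_
    show ((N.mulVecLin) ^ 2 ^ k) (z : Fin 3 → F) = 0
    rw [← Matrix.toLin'_apply', ← Matrix.toLin'_pow, hNk, map_zero, LinearMap.zero_apply]⟩
  have hR2 : R ^ 2 = 0 := by
    obtain ⟨j, hj⟩ := hRn
    have := Module.End.ker_pow_le_ker_pow_finrank R j
    rw [hj, LinearMap.ker_zero] at this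
    have h2 : R ^ Module.finrank F W = 0 := LinearMap.ker_eq_top.1 (top_le_iff.1 this)
    exact pow_eq_zero_of_le hWd h2
  have hN2 : N * N = 0 := by
    refine Matrix.ext_iff_mulVec.2 fun z => ?_
    rw [Matrix.zero_mulVec]
    set a := hermForm 3 F q z p / hermForm 3 F q p p with ha
    have hzW : z - a • p ∈ W := by
      rw [hW, herm_sub_left, herm_smul_left, ha, div_mul_cancel₀ _ hpp, sub_self]
    have h1 := congrArg Subtype.val (LinearMap.congr_fun hR2 ⟨_, hzW⟩)
    rw [pow_two] at h1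
    have h2 : N *ᵥ (N *ᵥ (z - a • p)) = 0 := h1
    rw [Matrix.mulVec_mulVec, Matrix.mulVec_sub, Matrix.mulVec_smul, ← Matrix.mulVec_mulVec p N N,
      hNp, Matrix.mulVec_zero, smul_zero, sub_zero] at h2
    exact h2
  have hgsq : g ^ 2 = 1 := by
    refine Subtype.ext (Subtype.ext ?_)
    show (((g ^ 2 : ↥(SU 3 F q)) : Matrix.SpecialLinearGroup (Fin 3) F) : Matrix (Fin 3) (Fin 3) F) = 1
    have h1 : A ^ 2 = 1 := by
      rw [← sub_eq_zero, ← hN2, hN, ← pow_two (A - 1),
        sub_pow_char_of_commute 2 (Commute.one_right _), one_pow]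
    simpa using h1
  obtain ⟨i, rfl⟩ := hyg
  show (π g ^ i) ^ 2 = 1
  rw [← zpow_natCast, ← _root_.zpow_mul, mul_comm, _root_.zpow_mul, zpow_natCast, ← map_pow, hgsq,
    map_one, _root_.one_zpow]

end Unitary

end CfsgLib.RootInv99
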