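import Cfsg.Agent.RootInvolutions.NoSuzuki99.Empty

/-!
The members of one image in a Suzuki component form an orbit of a group of translations that is
elementary abelian modulo the centraliser of the component.
-/

set_option autoImplicit false

universe u

namespace CfsgLib.RootInv99

open Cfsg CfsgLib.RootInv CfsgLib.RootInv.OddCommon

variable {G : Type u} [Group G] [Finite G] {D : Set G}

/-- The members with a given image. -/
def lam (M : Set G) (y : ↥(Subgroup.closure M) ⧸ twoZCore ↥(Subgroup.closure M)) : Set G :=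
  {m | ∃ hm : m ∈ M, img hm = y}

/-- The products of two members with the same image. -/
def translations (M : Set G) : Set G :=
  {t | ∃ (m : G) (hm : m ∈ M) (n : G) (hn : n ∈ M), img hm = img hn ∧ t = m * n}

/-- The group of translations. -/
abbrev transGroup (M : Set G) : Subgroup G := Subgroup.closure (translations M)

namespace SC

variable {v : G} {M : Set G} {a b c k g m n t t' x : G} (h : Cx D) (C : SC D v M)

include C

theorem img_conj (hm : m ∈ M) (hg : g ∈ Subgroup.closure M) :
    img (C.conj_mem hg hm) = bar ⟨g, hg⟩ * img hm * (bar ⟨g, hg⟩)⁻¹ := by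
  show bar _ = bar _ * bar _ * (bar _)⁻¹
  rw [← map_inv, ← map_mul, ← map_mul]
  rfl

theorem transGroup_le :
    transGroup M ≤ (twoZCore ↥(Subgroup.closure M)).map (Subgroup.closure M).subtype := by
  rw [Subgroup.closure_le]
  rintro _ ⟨m, hm, n, hn, he, rfl⟩
  refine ⟨inH hm * inH hn, bar_eq_one.1 ?_, rfl⟩
  rw [map_mul]
  have h2 := sq_eq_one_of_orderOf_two (C.orderOf_img hn)
  show img hm * img hn = 1
  rwa [he, ← pow_two]

theorem transGroup_le_closure : transGroup M ≤ Subgroup.closure M :=
  C.transGroup_le.trans (Subgroup.map_subtype_le _)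

theorem bar_eq_one_of_trans (hk : k ∈ transGroup M) :
    bar (⟨k, C.transGroup_le_closure hk⟩ : ↥(Subgroup.closure M)) = 1 := by
  obtain ⟨⟨k', hk'⟩, hz, rfl⟩ := C.transGroup_le hk
  exact bar_eq_one.2 hz

/-- A translation preserves images. -/
theorem img_conj_trans (hm : m ∈ M) (hk : k ∈ transGroup M) :
    img (C.conj_mem (C.transGroup_le_closure hk) hm) = img hm := by
  rw [C.img_conj hm (C.transGroup_le_closure hk), C.bar_eq_one_of_trans hk]
  simp

theorem conj_translation (hg : g ∈ Subgroup.closure M) (ht : t ∈ translations M) :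
    g * t * g⁻¹ ∈ translations M := by
  obtain ⟨m, hm, n, hn, he, rfl⟩ := ht
  refine ⟨_, C.conj_mem hg hm, _, C.conj_mem hg hn, ?_, by group⟩
  rw [C.img_conj hm hg, C.img_conj hn hg, he]

theorem conj_transGroup (hg : g ∈ Subgroup.closure M) (hk : k ∈ transGroup M) :
    g * k * g⁻¹ ∈ transGroup M := by
  induction hk using Subgroup.closure_induction with
  | mem t ht => exact Subgroup.subset_closure (C.conj_translation hg ht)
  | one => simp
  | mul p q _ _ hp hq =>
    rw [show g * (p * q) * g⁻¹ = g * p * g⁻¹ * (g * q * g⁻¹) by group]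
    exact mul_mem hp hq
  | inv p _ hp =>
    rw [show g * p⁻¹ * g⁻¹ = (g * p * g⁻¹)⁻¹ by group]
    exact inv_mem hp

theorem commute_of_img_eq (hm : m ∈ M) (hn : n ∈ M) (he : img hm = img hn) : Commute m n :=
  (C.commute_iff hm hn).2 (by rw [he])

omit C in
theorem commute_closure_of_forall {z : G} (hz : ∀ m ∈ M, Commute z m)
    (hg : g ∈ Subgroup.closure M) : Commute z g :=
  Subgroup.mem_centralizer_singleton_iff.1 (((Subgroup.closure_le _).2 fun m hm =>
    Subgroup.mem_centralizer_singleton_iff.2 (hz m hm).symm.eq) hg) |> fun e => e.symm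

include h

theorem translation_sq (ht : t ∈ translations M) : t * t = 1 := by
  obtain ⟨m, hm, n, hn, he, rfl⟩ := ht
  have hc := C.commute_of_img_eq hm hn he
  rw [show m * n * (m * n) = m * (n * m) * n by group, ← hc.eq,
    show m * (m * n) * n = m * m * (n * n) by group, mul_self h.ot.1 (C.mem hm).1,
    mul_self h.ot.1 (C.mem hn).1, one_mul]

/-- Fixing the members commuting with `a` and one other member means fixing all. -/
theorem commute_all (ha : a ∈ M) (hb : b ∈ M) (hab : ¬ Commute a b) {g : G}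
    (hga : ∀ c ∈ M, Commute c a → Commute g c) (hgb : Commute g b) : ∀ p ∈ M, Commute g p := by
  have step : ∀ b ∈ M, ¬ Commute a b → Commute g b → ∀ p ∈ M, ¬ Commute p b → Commute g p := by
    intro b hb hab hgb p hp hpb
    obtain ⟨a', ha', haS, hae⟩ := C.exists_span_img h hp hb hpb (C.orderOf_img ha)
    have haa : Commute a' a := (C.commute_iff ha' ha).2 (by rw [hae])
    have hab' : ¬ Commute a' b := fun hc => hab (C.trans ha' ha hb haa hc)
    have heq := C.span_eq h hp hb hpb ha' hb haS (right_mem_span p b) hab'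
    refine commute_of_mem (D := D) (d := a') (x := b) (fun e he => ?_) hgb
      (by rw [show Subgroup.closure (sameCommutingClass D a' ∪ {b}) = span D p b from heq]
          exact left_mem_span (C.mem hp).1 b)
    exact hga e (C.twins_mem h ha' he) (C.trans ha' (C.twins_mem h ha' he) ha
      (same_commute (C.mem ha').1 ⟨(C.mem ha').1, rfl⟩ he) haa)
  intro p hp
  by_cases hpa : Commute p a
  · exact hga p hp hpa
  by_cases hpb : Commute p b
  swap
  · exact step b hb hab hgb p hp hpb
  -- a third image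
  obtain ⟨y, hy, hya, hyb⟩ : ∃ y, orderOf y = 2 ∧ ¬ Commute y (img ha) ∧ ¬ Commute y (img hb) := by
    by_contra hcon
    push Not at hcon
    have := C.szK.finite
    have hsub : {y : ↥(Subgroup.closure M) ⧸ twoZCore ↥(Subgroup.closure M) | orderOf y = 2} ⊆
        {y | orderOf y = 2 ∧ Commute y (img ha)} ∪ {y | orderOf y = 2 ∧ Commute y (img hb)} :=
      fun y hy => (em (Commute y (img ha))).imp (fun hc => ⟨hy, hc⟩) fun hc => ⟨hy, hcon y hy hc⟩
    have hcard := (Set.ncard_le_ncard hsub (Set.toFinite _)).trans (Set.ncard_union_le _ _)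
    rw [C.szK.card_invols, C.szK.inv.invols _ (C.orderOf_img ha),
      C.szK.inv.invols _ (C.orderOf_img hb)] at hcard
    have := C.szK.eight_le
    have h3 : 3 * (rootOrder D v - 1) ≤ (rootOrder D v ^ 2 + 1) * (rootOrder D v - 1) :=
      Nat.mul_le_mul_right _ (by nlinarith)
    omega
  obtain ⟨c, hc, -, hce⟩ := C.exists_span_img h ha hb hab hy
  subst hce
  have hca : ¬ Commute a c := fun hh => hya ((C.commute_iff hc ha).1 hh.symm)
  have hcb : ¬ Commute c b := fun hh => hyb ((C.commute_iff hc hb).1 hh)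
  exact step c hc hca (step b hb hab hgb c hc hcb) p hp fun hpc =>
    hcb (C.trans hp hc hb hpc hpb)

theorem commute_translation {m n c : G} (hm : m ∈ M) (hn : n ∈ M) (he : img hm = img hn)
    (hc : c ∈ M) (hcm : Commute c m) : Commute (m * n) c :=
  hcm.symm.mul_left (C.trans hm hc hn hcm.symm (C.commute_of_img_eq hm hn he)).symm

/-- The commutator of two translations centralises the component. -/
theorem commutator_translations (ht : t ∈ translations M) (ht' : t' ∈ translations M) :
    ∀ p ∈ M, Commute (t * t' * t * t') p := by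
  obtain ⟨m, hm, n, hn, he, rfl⟩ := ht
  obtain ⟨m', hm', n', hn', he', rfl⟩ := ht'
  have hsq := C.translation_sq h ⟨m, hm, n, hn, he, rfl⟩
  have hsq' := C.translation_sq h ⟨m', hm', n', hn', he', rfl⟩
  by_cases hmm : Commute m' m
  · intro p _
    have h1 : Commute (m * n) m' := C.commute_translation h hm hn he hm' hmm
    have h2 : Commute (m * n) n' := C.commute_translation h hm hn he hn'
      (C.trans hm' hn' hm (C.commute_of_img_eq hm' hn' he') hmm)
    have hcc : Commute (m * n) (m' * n') := h1.mul_right h2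
    rw [show m * n * (m' * n') * (m * n) * (m' * n') = m * n * (m' * n' * (m * n)) * (m' * n') by group,
      ← hcc.eq, show m * n * (m * n * (m' * n')) * (m' * n') = m * n * (m * n) * (m' * n' * (m' * n')) by
        group, hsq, hsq', one_mul]
    exact Commute.one_left p
  -- each side fixes its own image class
  have fixes : ∀ {m n m' n' : G} (hm : m ∈ M) (hn : n ∈ M) (_ : img hm = img hn) (hm' : m' ∈ M)
      (hn' : n' ∈ M) (_ : img hm' = img hn') (c : G), c ∈ M → Commute c m →
        Commute (m * n * (m' * n') * (m * n) * (m' * n')) c := by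
    intro m n m' n' hm hn he hm' hn' he' c hc hcm
    set t := m * n with htdef
    set t' := m' * n' with ht'def
    have hs : t * t = 1 := C.translation_sq h ⟨m, hm, n, hn, he, rfl⟩
    have hs' : t' * t' = 1 := C.translation_sq h ⟨m', hm', n', hn', he', rfl⟩
    have hi' : t'⁻¹ = t' := inv_eq_of_mul_eq_one_right hs'
    have hk : t' ∈ transGroup M := Subgroup.subset_closure ⟨m', hm', n', hn', he', rfl⟩
    have hc' := C.conj_mem (C.transGroup_le_closure hk) hc
    have hc'm : Commute (t' * c * t'⁻¹) m := (C.commute_iff hc' hm).2 (by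
      rw [C.img_conj_trans hc hk]; exact (C.commute_iff hc hm).1 hcm)
    have h1 : Commute t (t' * c * t'⁻¹) := C.commute_translation h hm hn he hc' hc'm
    have h2 : Commute t c := C.commute_translation h hm hn he hc hcm
    rw [hi'] at h1
    clear_value t t'
    show t * t' * t * t' * c = c * (t * t' * t * t')
    calc t * t' * t * t' * c = t * t' * t * (t' * c * t') * t' := by
          rw [show t * t' * t * (t' * c * t') * t' = t * t' * t * (t' * c) * (t' * t') by group, hs',
            mul_one, mul_assoc _ t' c]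
      _ = t * t' * ((t' * c * t') * t) * t' := by rw [← h1.eq]; group
      _ = t * c * (t' * t * t') := by
          rw [show t * t' * (t' * c * t' * t) * t' = t * (t' * t') * c * (t' * t * t') by group, hs',
            mul_one]
      _ = c * (t * t' * t * t') := by rw [h2.eq]; group
  refine C.commute_all h hm hm' (fun hc => hmm hc.symm) (fun c hc hcm => fixes hm hn he hm' hn' he' c hc hcm)
    ?_
  have hb := fixes hm' hn' he' hm hn he m' hm' (Commute.refl m')
  have hinv : (m' * n' * (m * n) * (m' * n') * (m * n))⁻¹ = m * n * (m' * n') * (m * n) * (m' * n') := by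
    generalize m * n = T at hsq
    generalize m' * n' = T' at hsq'
    rw [mul_inv_rev, mul_inv_rev, mul_inv_rev, inv_eq_of_mul_eq_one_right hsq,
      inv_eq_of_mul_eq_one_right hsq']
    group
  exact hinv ▸ hb.inv_left

omit h in
theorem commute_closure_comm {z : G} (hz : ∀ p ∈ M, Commute z p) (hg : g ∈ Subgroup.closure M) :
    g * z * g⁻¹ = z := by
  rw [← (commute_closure_of_forall hz hg).eq, mul_inv_cancel_right]

/-- Translations commute modulo the centraliser of the component. -/
theorem commutator_transGroup {x y : G} (hx : x ∈ transGroup M) (hy : y ∈ transGroup M) :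
    ∀ p ∈ M, Commute (x * y * x⁻¹ * y⁻¹) p := by
  have base : ∀ t ∈ translations M, ∀ t' ∈ translations M, ∀ p ∈ M,
      Commute (t * t' * t⁻¹ * t'⁻¹) p := fun t ht t' ht' => by
    rw [inv_eq_of_mul_eq_one_right (C.translation_sq h ht),
      inv_eq_of_mul_eq_one_right (C.translation_sq h ht')]
    exact C.commutator_translations h ht ht'
  have hright : ∀ x ∈ Subgroup.closure M, (∀ t ∈ translations M, ∀ p ∈ M,
      Commute (x * t * x⁻¹ * t⁻¹) p) → ∀ y ∈ transGroup M, ∀ p ∈ M,
      Commute (x * y * x⁻¹ * y⁻¹) p := by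
    intro x hx hbase y hy
    induction hy using Subgroup.closure_induction with
    | mem t ht => exact hbase t ht
    | one => intro p _; simp
    | mul y₁ y₂ h1 _ ih1 ih2 =>
      intro p hp
      have hz := C.commute_closure_comm ih2 (C.transGroup_le_closure h1)
      rw [show x * (y₁ * y₂) * x⁻¹ * (y₁ * y₂)⁻¹ =
        (x * y₁ * x⁻¹ * y₁⁻¹) * (y₁ * (x * y₂ * x⁻¹ * y₂⁻¹) * y₁⁻¹) by group, hz]
      exact (ih1 p hp).mul_left (ih2 p hp)
    | inv y₁ h1 ih1 =>
      intro p hp
      have hz := C.commute_closure_comm ih1 (inv_mem (C.transGroup_le_closure h1))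
      rw [show x * y₁⁻¹ * x⁻¹ * y₁⁻¹⁻¹ = (y₁⁻¹ * (x * y₁ * x⁻¹ * y₁⁻¹) * y₁⁻¹⁻¹)⁻¹ by group, hz]
      exact (ih1 p hp).inv_left
  refine hright x (C.transGroup_le_closure hx) (fun t ht p hp => ?_) y hy
  have := hright t (C.transGroup_le_closure (Subgroup.subset_closure ht)) (base t ht) x hx p hp
  rw [show x * t * x⁻¹ * t⁻¹ = (t * x * t⁻¹ * x⁻¹)⁻¹ by group]
  exact this.inv_left

/-- Squares of translations centralise the component. -/
theorem sq_transGroup {x : G} (hx : x ∈ transGroup M) : ∀ p ∈ M, Commute (x * x) p := by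
  induction hx using Subgroup.closure_induction with
  | mem t ht => intro p _; rw [C.translation_sq h ht]; exact Commute.one_left p
  | one => intro p _; simp
  | mul y z hy hz ihy ihz =>
    intro p hp
    have hc := C.commutator_transGroup h hz hy
    have hk := C.commute_closure_comm hc (C.transGroup_le_closure hy)
    rw [show y * z * (y * z) = (y * (z * y * z⁻¹ * y⁻¹) * y⁻¹) * (y * y) * (z * z) by group, hk]
    exact ((hc p hp).mul_left (ihy p hp)).mul_left (ihz p hp)
  | inv y _ ih =>
    intro p hp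
    rw [← mul_inv_rev]
    exact (ih p hp).inv_left

/-- The translations move a member to all members with its image. -/
theorem exists_translation (hm : m ∈ M) (hn : n ∈ M) (he : img hn = img hm) :
    ∃ k ∈ transGroup M, k * m * k⁻¹ = n := by
  obtain ⟨x, hx, hmx⟩ := C.exists_not_commute hm
  have key : ∀ g ∈ Subgroup.closure M, ∃ k ∈ transGroup M, ∃ s ∈ span D m x, g = k * s := by
    intro g hg
    induction hg using Subgroup.closure_induction_left with
    | one => exact ⟨1, one_mem _, 1, one_mem _, (mul_one 1).symm⟩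
    | mul_left p hp q hq ih =>
      obtain ⟨k, hk, s, hs, rfl⟩ := ih
      obtain ⟨p', hp', hpS, hpe⟩ := C.exists_span_img h hm hx hmx (C.orderOf_img hp)
      refine ⟨p' * ((p' * p) * k) * p'⁻¹, C.conj_transGroup (Subgroup.subset_closure hp')
        (mul_mem (Subgroup.subset_closure ⟨p', hp', p, hp, hpe, rfl⟩) hk), p' * s, mul_mem hpS hs, ?_⟩
      rw [show p' * (p' * p * k) * p'⁻¹ * (p' * s) = p' * p' * p * (k * s) by group,
        mul_self h.ot.1 (C.mem hp').1, one_mul]
    | inv_mul_cancel p hp q hq ih =>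
      obtain ⟨k, hk, s, hs, rfl⟩ := ih
      obtain ⟨p', hp', hpS, hpe⟩ := C.exists_span_img h hm hx hmx (C.orderOf_img hp)
      refine ⟨p' * ((p' * p) * k) * p'⁻¹, C.conj_transGroup (Subgroup.subset_closure hp')
        (mul_mem (Subgroup.subset_closure ⟨p', hp', p, hp, hpe, rfl⟩) hk), p' * s, mul_mem hpS hs, ?_⟩
      rw [inv_self h.ot.1 (C.mem hp).1,
        show p' * (p' * p * k) * p'⁻¹ * (p' * s) = p' * p' * p * (k * s) by group,
        mul_self h.ot.1 (C.mem hp').1, one_mul]
  obtain ⟨⟨g, hg⟩, hgn⟩ := C.disc.one (inH hm) hm (inH hn) hn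
  obtain ⟨k, hk, s, hs, rfl⟩ := key g hg
  have hgn' : k * s * m * (k * s)⁻¹ = n := (congrArg Subtype.val hgn).symm
  have hsH := C.span_le h hm hx hs
  have hsm := C.conj_mem hsH hm
  refine ⟨k, hk, ?_⟩
  have hkn : k * (s * m * s⁻¹) * k⁻¹ = n := by rw [← hgn']; group
  have hsame : s * m * s⁻¹ = m := by
    refine C.span_img_inj h hm hx hmx hsm hm (mul_mem (mul_mem hs (left_mem_span (C.mem hm).1 x))
      (inv_mem hs)) (left_mem_span (C.mem hm).1 x) ?_
    rw [← C.img_conj_trans hsm hk, ← he]
    simp only [hkn]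
  rwa [hsame] at hkn

theorem lam_nonempty (hm : m ∈ M) {y : ↥(Subgroup.closure M) ⧸ twoZCore ↥(Subgroup.closure M)}
    (hy : orderOf y = 2) : (lam M y).Nonempty := by
  obtain ⟨x, hx, hmx⟩ := C.exists_not_commute hm
  obtain ⟨w, hw, -, he⟩ := C.exists_span_img h hm hx hmx hy
  exact ⟨w, hw, he⟩

omit h in
theorem ncard_lam_eq {y z : ↥(Subgroup.closure M) ⧸ twoZCore ↥(Subgroup.closure M)}
    (hy : orderOf y = 2) (hz : orderOf z = 2) : (lam M y).ncard = (lam M z).ncard := by
  have key : ∀ {y z : ↥(Subgroup.closure M) ⧸ twoZCore ↥(Subgroup.closure M)}, orderOf y = 2 →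
      orderOf z = 2 → (lam M y).ncard ≤ (lam M z).ncard := by
    intro y z hy hz
    obtain ⟨k, hk⟩ := isConj_iff.1 (C.szK.inv.conj y z hy hz)
    obtain ⟨g, rfl⟩ := QuotientGroup.mk'_surjective _ k
    refine Set.ncard_le_ncard_of_injOn (fun m => (g : G) * m * (g : G)⁻¹) ?_
      (fun p _ q _ e => mul_left_cancel (mul_right_cancel e)) (Set.toFinite _)
    rintro m ⟨hm, he⟩
    exact ⟨C.conj_mem g.2 hm, by rw [C.img_conj hm g.2, he]; exact hk⟩
  exact le_antisymm (key hy hz) (key hz hy)

/-- A second member with the image of `a` gives `q²` members with the image of `b` inside spans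
through it and members of `⟨E_a, b⟩`. -/
theorem sq_le_spanned (ha : a ∈ M) (hb : b ∈ M) (hab : ¬ Commute a b) (hc : c ∈ M) (hca : c ≠ a)
    (he : img hc = img ha) : rootOrder D v ^ 2 ≤
      {w | w ∈ lam M (img hb) ∧ ∃ p ∈ span D a b, p ∈ M ∧ w ∈ span D c p}.ncard := by
  rw [← C.szK.cent_card _ (C.orderOf_img ha), ← Nat.card_coe_set_eq]
  have := C.szK.finite
  have hord : ∀ t : ↥(Subgroup.centralizer ({img ha} :
      Set (↥(Subgroup.closure M) ⧸ twoZCore ↥(Subgroup.closure M)))),
      orderOf ((t : ↥(Subgroup.closure M) ⧸ twoZCore ↥(Subgroup.closure M)) * img hb *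
        (t : ↥(Subgroup.closure M) ⧸ twoZCore ↥(Subgroup.closure M))⁻¹) = 2 := fun t => by
    rw [orderOf_conj_eq]; exact C.orderOf_img hb
  choose p hp hpS hpe using fun t => C.exists_span_img h ha hb hab (hord t)
  have htc : ∀ t : ↥(Subgroup.centralizer ({img ha} :
      Set (↥(Subgroup.closure M) ⧸ twoZCore ↥(Subgroup.closure M)))),
      Commute (t : ↥(Subgroup.closure M) ⧸ twoZCore ↥(Subgroup.closure M)) (img ha) := fun t =>
    Subgroup.mem_centralizer_singleton_iff.1 t.2
  have hcp : ∀ t, ¬ Commute c (p t) := fun t hcc => hab ((C.commute_iff ha hb).2 (by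
    have h1 := (C.commute_iff hc (hp t)).1 hcc
    rw [he, hpe t] at h1
    have h2 := (Commute.conj_iff (t : ↥(Subgroup.closure M) ⧸ twoZCore ↥(Subgroup.closure M))⁻¹).2 h1
    rwa [inv_inv, mul_assoc _ (img ha), ← (htc t).eq, inv_mul_cancel_left,
      show ((t : ↥(Subgroup.closure M) ⧸ twoZCore ↥(Subgroup.closure M))⁻¹ * (t * img hb * (t : ↥(Subgroup.closure M) ⧸ twoZCore ↥(Subgroup.closure M))⁻¹) * t) = img hb by group] at h2))
  choose w hw hwS hwe using fun t => C.exists_span_img h hc (hp t) (hcp t) (C.orderOf_img hb)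
  refine Nat.card_le_card_of_injective (fun t => (⟨w t, ⟨hw t, hwe t⟩, p t, hpS t, hp t, hwS t⟩ :
    ↑{w | w ∈ lam M (img hb) ∧ ∃ p ∈ span D a b, p ∈ M ∧ w ∈ span D c p})) fun t t' heq => ?_
  have hwt : w t = w t' := congrArg Subtype.val heq
  by_contra hne
  have hcw : ¬ Commute c (w t) := fun hcc => hab ((C.commute_iff ha hb).2 (by
    have h1 := (C.commute_iff hc (hw t)).1 hcc
    rwa [he, hwe t] at h1))
  have e1 := C.span_eq h hc (hp t) (hcp t) hc (hw t) (left_mem_span (C.mem hc).1 _) (hwS t) hcw
  have e2 := C.span_eq h hc (hp t') (hcp t') hc (hw t) (left_mem_span (C.mem hc).1 _) (hwt ▸ hwS t') hcw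
  have hmem : p t' ∈ span D c (p t) := by
    rw [← e1, e2]; exact right_mem_span _ _
  have hpp : ¬ Commute (p t') (p t) := fun hh => by
    have h1 := (C.commute_iff (hp t') (hp t)).1 hh
    rw [hpe, hpe] at h1
    have h2 := (Commute.conj_iff (t : ↥(Subgroup.closure M) ⧸ twoZCore ↥(Subgroup.closure M))⁻¹).2 h1
    rw [inv_inv] at h2
    refine C.szK.regular (C.orderOf_img ha) (C.orderOf_img hb) (fun hc' => hab ((C.commute_iff ha hb).2 hc'))
      (g := (t : ↥(Subgroup.closure M) ⧸ twoZCore ↥(Subgroup.closure M))⁻¹ *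
        (t' : ↥(Subgroup.closure M) ⧸ twoZCore ↥(Subgroup.closure M)))
      ((htc t).inv_left.mul_left (htc t')) (fun e => hne (Subtype.ext (inv_mul_eq_one.1 e))) ?_
    convert h2 using 1 <;> group
  have e3 := C.span_eq h ha hb hab (hp t') (hp t) (hpS t') (hpS t) hpp
  have e4 := C.span_eq h hc (hp t) (hcp t) (hp t') (hp t) hmem (right_mem_span _ _) hpp
  have hcX : c ∈ span D a b := by
    rw [← e3, e4]; exact left_mem_span (C.mem hc).1 _
  exact hca (C.span_img_inj h ha hb hab hc ha hcX (left_mem_span (C.mem ha).1 b) he)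

/-- A second member with the image of `a` gives `q²` members with every image. -/
theorem sq_le_lam (ha : a ∈ M) (hc : c ∈ M) (hca : c ≠ a) (he : img hc = img ha)
    {y : ↥(Subgroup.closure M) ⧸ twoZCore ↥(Subgroup.closure M)} (hy : orderOf y = 2) :
    rootOrder D v ^ 2 ≤ (lam M y).ncard := by
  obtain ⟨b, hb, hab⟩ := C.exists_not_commute ha
  rw [C.ncard_lam_eq hy (C.orderOf_img hb)]
  exact (C.sq_le_spanned h ha hb hab hc hca he).trans
    (Set.ncard_le_ncard (fun w hw => hw.1) (Set.toFinite _))

end SC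

end CfsgLib.RootInv99
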