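import Cfsg.Agent.RootInvolutions.NoSuzuki99.SRG

/-!
Every span of an odd pair in a connected class of odd transpositions is flat.
-/

set_option autoImplicit false

universe u

namespace CfsgLib.RootInv99

open Cfsg CfsgLib.RootInv CfsgLib.RootInv.OddCommon

variable {K : Type u} [Group K] [Finite K] {E : Set K}

theorem commute_of_mul_mem_twoZCore (hE : IsOddTranspositionSet E) {a c : K} (ha : a ∈ E)
    (hc : c ∈ E) (hm : a * c ∈ twoZCore K) : Commute a c := by
  have : Fact (Nat.Prime 2) := ⟨Nat.prime_two⟩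
  rcases odd_or_commute hE ha hc with h | ho
  · exact h
  have h1 : QuotientGroup.mk' (pCore 2 K) a * QuotientGroup.mk' (pCore 2 K) (a * c) =
      QuotientGroup.mk' (pCore 2 K) (a * c) * QuotientGroup.mk' (pCore 2 K) a :=
    Subgroup.mem_center_iff.1 hm _
  have h2 : QuotientGroup.mk' (pCore 2 K) ((a * c) * (a * c)) = 1 := by
    rw [← mul_assoc, map_mul, map_mul _ (a * c) a, ← h1, ← map_mul, ← map_mul,
      ← mul_assoc a a c, mul_self hE.1 ha, one_mul, mul_self hE.1 hc, map_one]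
  obtain ⟨k, hk⟩ := LocalP.isPGroup_pCore (G := K) (p := 2) ⟨_, (QuotientGroup.eq_one_iff _).1 h2⟩
  have hk' : (a * c) ^ 2 ^ (k + 1) = 1 := by
    rw [pow_succ', pow_mul, pow_two]
    exact congrArg Subtype.val hk
  rw [(eq_inv_of_mul_eq_one_left (eq_one_of_two_pow_of_odd hk' ho)).trans (inv_self hE.1 hc)]

/-- Flatness is inherited from the quotient by the centre modulo the 2-core. -/
theorem flat_of_quotient (hE : IsOddTranspositionSet E) (hone : OneClass E) (hl : ∃ a b, Line E a b)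
    (hconn : IsConnectedSet (CommAdj E) E) (hind : Ind.{u} (Nat.card K)) (hZ : twoZCore K ≠ ⊥)
    {d x : K} (hd : d ∈ E) (hx : x ∈ oddPartners E d) : TwoFlat (span E d x) := by
  have : Fact (Nat.Prime 2) := ⟨Nat.prime_two⟩
  obtain ⟨l₁, l₂, hl⟩ := hl
  set π : K →* K ⧸ twoZCore K := bar with hπ
  have hmem : ∀ a ∈ E, π a ≠ 1 := fun a ha h => by
    refine twoZCore_ne_top hE.1 hone hl (eq_top_iff.2 ?_)
    rw [← hE.1.generates, Subgroup.closure_le]
    intro w hw
    obtain ⟨g, rfl⟩ := hone a ha w hw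
    exact (twoZCore_normal K).conj_mem a (bar_eq_one.1 h) g
  have hrefl : ∀ a ∈ E, ∀ c ∈ E, Commute (π a) (π c) → Commute a c := by
    intro a ha c hc h
    rcases odd_or_commute hE ha hc with h' | ho
    · exact h'
    refine commute_of_mul_mem_twoZCore hE ha hc (bar_eq_one.1 ?_)
    have h2 : π (a * c) * π (a * c) = 1 := by
      rw [← pow_two, map_mul, h.mul_pow, ← map_pow, ← map_pow, pow_two, pow_two, mul_self hE.1 ha,
        mul_self hE.1 hc, map_one, one_mul]
    exact eq_one_of_sq_of_odd h2 (ho.of_dvd_nat (orderOf_map_dvd π _))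
  have hpair : ∀ a ∈ E, ∀ c ∈ E, Commute (π a) (π c) ∨ Odd (orderOf (π a * π c)) := fun a ha c hc =>
    (odd_or_commute hE ha hc).imp (fun h => h.map π) fun h => by
      rw [← map_mul]; exact h.of_dvd_nat (orderOf_map_dvd _ _)
  have hot : IsOddTranspositionSet (π '' E) := by
    refine ⟨⟨?_, ?_, ?_, ?_⟩, ?_⟩
    · rintro _ ⟨a, ha, rfl⟩
      exact orderOf_eq_prime (by rw [← map_pow, pow_two, mul_self hE.1 ha, map_one]) (hmem a ha)
    · rw [← MonoidHom.map_closure, hE.1.generates,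
        Subgroup.map_top_of_surjective _ (QuotientGroup.mk'_surjective _)]
    · rintro _ ⟨a, ha, rfl⟩ g
      obtain ⟨g, rfl⟩ := QuotientGroup.mk'_surjective _ g
      exact ⟨g * a * g⁻¹, hE.1.conj_mem a ha g, by rw [map_mul, map_mul, map_inv]⟩
    · rintro _ ⟨a, ha, rfl⟩ _ ⟨c, hc, rfl⟩
      exact (hpair a ha c hc).imp (fun h => h.eq) Or.inl
    · rintro _ ⟨a, ha, rfl⟩ _ ⟨c, hc, rfl⟩ h4
      rcases hpair a ha c hc with h | h
      · have h2 : (π a * π c) ^ 2 = 1 := by
          rw [h.mul_pow, ← map_pow, ← map_pow, pow_two, pow_two, mul_self hE.1 ha, mul_self hE.1 hc,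
            map_one, one_mul]
        exact Nat.not_le.mpr (by norm_num) (h4 ▸ Nat.le_of_dvd two_pos (orderOf_dvd_of_pow_eq_one h2))
      · rw [h4] at h
        exact absurd h (by decide)
  have hone' : OneClass (π '' E) := by
    rintro _ ⟨p, hp, rfl⟩ _ ⟨q, hq, rfl⟩
    obtain ⟨g, rfl⟩ := hone p hp q hq
    exact ⟨π g, by rw [map_mul, map_mul, map_inv]⟩
  have hconn' : IsConnectedSet (CommAdj (π '' E)) (π '' E) := by
    rintro _ ⟨p, hp, rfl⟩ _ ⟨q, hq, rfl⟩
    have hpath := hconn p hp q hq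
    clear hq
    induction hpath with
    | refl => exact Relation.ReflTransGen.refl
    | @tail r t _ hrt ih =>
      by_cases he : π r = π t
      · exact he ▸ ih
      · exact ih.tail ⟨⟨r, hrt.1, rfl⟩, ⟨t, hrt.2.1, rfl⟩, he,
          ((show Commute r t from hrt.2.2.2).map π).eq⟩
  have hlt : Nat.card (K ⧸ twoZCore K) < Nat.card K := by
    rw [Subgroup.card_eq_card_quotient_mul_card_subgroup (twoZCore K)]
    have h1 := Nat.card_pos (α := K ⧸ twoZCore K)
    have h2 : 1 < Nat.card (twoZCore K) := (Subgroup.one_lt_card_iff_ne_bot _).2 hZ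
    nlinarith
  have hdx : ¬ Commute d x := not_commute_of_odd hE.1 hd hx.1 hx.2.1.symm hx.2.2
  have hx' : π x ∈ oddPartners (π '' E) (π d) :=
    ⟨⟨x, hx.1, rfl⟩, fun e => hdx (hrefl d hd x hx.1 (by rw [e])),
      (hpair d hd x hx.1).resolve_left fun hc => hdx (hrefl d hd x hx.1 hc)⟩
  have hflat := hind _ hlt _ hot hone'
    ⟨π l₁, π l₂, ⟨l₁, hl.1, rfl⟩, ⟨l₂, hl.2.1, rfl⟩, ⟨l₁ * l₂, hl.2.2, map_mul π l₁ l₂⟩⟩ hconn'
    _ ⟨d, hd, rfl⟩ _ hx'
  have hle : (span E d x).map π ≤ span (π '' E) (π d) (π x) := by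
    rw [MonoidHom.map_closure]
    refine Subgroup.closure_mono ?_
    rintro _ ⟨u, hu | hu, rfl⟩
    · refine Or.inl ⟨⟨u, hu.1, rfl⟩, Set.ext ?_⟩
      intro z
      constructor
      · rintro ⟨⟨z, hz, rfl⟩, hc⟩
        exact ⟨⟨z, hz, rfl⟩, (((same_commute_iff hu hz).1 (hrefl z hz d hd hc)).map π).eq⟩
      · rintro ⟨⟨z, hz, rfl⟩, hc⟩
        exact ⟨⟨z, hz, rfl⟩, (((same_commute_iff hu hz).2 (hrefl z hz u hu.1 hc)).map π).eq⟩
    · exact Or.inr (congrArg π hu)
  obtain ⟨N, hNX, hn, hp, hsq⟩ := hflat.mono hle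
  rcases flat_or_suzuki criterion hE hd hx with hf | ⟨q, hs⟩
  · exact hf
  exfalso
  refine not_twoFlat_of_suzuki hs (twoFlat_iff_core.2 fun g ⟨k, hk⟩ => ?_)
  set f : ↥(span E d x) →* K ⧸ twoZCore K := π.comp (span E d x).subtype with hf
  have hsol : Group.IsSolvable f.ker := by
    have := twoZCore_isSolvable (G := K)
    refine Group.isSolvable_of_isSolvable_injective
      (f := ((span E d x).subtype.comp f.ker.subtype).codRestrict (twoZCore K)
        fun y => bar_eq_one.1 (MonoidHom.mem_ker.1 y.2)) ?_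
    intro p r e
    exact Subtype.ext (Subtype.ext (congrArg (fun w : ↥(twoZCore K) => (w : K)) e))
  haveI := hs.simple
  have hker := ker_le_core hs.not_solvable f
  have hnorm : (N.comap f).Normal := ⟨fun y hy z => by
    show f (z * y * z⁻¹) ∈ N
    rw [map_mul, map_mul, map_inv]
    exact hn _ (Subgroup.mem_map_of_mem π z.2) _ hy⟩
  have hP : IsPGroup 2 (N.comap f) := by
    rintro ⟨y, hy⟩
    obtain ⟨i, hi⟩ := hp ⟨f y, hy⟩
    have h1 : y ^ 2 ^ i ∈ pCore 2 ↥(span E d x) := hker (MonoidHom.mem_ker.2 (by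
      rw [map_pow]; exact congrArg Subtype.val hi))
    obtain ⟨j, hj⟩ := LocalP.isPGroup_pCore (G := ↥(span E d x)) (p := 2) ⟨_, h1⟩
    exact ⟨i + j, Subtype.ext (by
      show y ^ 2 ^ (i + j) = 1
      rw [pow_add, pow_mul]; exact congrArg Subtype.val hj)⟩
  refine LocalP.le_pCore hnorm hP ?_
  show f (g ^ 2) ∈ N
  rw [map_pow]
  exact hsq _ (Subgroup.mem_map_of_mem π g.2) ⟨k, by
    show f g ^ 2 ^ k = 1
    rw [← map_pow, hk, map_one]⟩

/-- Every span is flat. -/
theorem ind_all : ∀ n, Ind.{u} n := by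
  intro n
  induction n using Nat.strong_induction_on with
  | _ n ih =>
    intro K _ _ hK E hE hone hl hconn d hd x hx
    have hind := ih _ hK
    by_cases hZ : twoZCore K = ⊥
    swap
    · exact flat_of_quotient hE hone hl hconn hind hZ hd hx
    obtain ⟨l₁, l₂, hl'⟩ := hl
    haveI : Nontrivial K := ⟨⟨d, 1, ne_one hE.1 hd⟩⟩
    have hsimple : IsSimpleGroup K := by
      refine ⟨fun N hN => ?_⟩
      rcases eq_top_or_le_twoZCore hE.1 hone hl' N with h | h
      · exact Or.inr h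
      · exact Or.inl (le_bot_iff.1 (hZ ▸ h))
    have hcx : Cx E := ⟨hE, hone, ⟨l₁, l₂, hl'⟩, hconn, hsimple, hind⟩
    by_contra hn
    exact Full.impossible ⟨hcx, fun p hp => (hcx.sc_all hd hx hn hp).1⟩

end CfsgLib.RootInv99
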