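import Cfsg.Agent.RootInvolutions.NoSuzuki99.Count

/-!
Two odd pairs cannot centralise each other.
-/

set_option autoImplicit false

universe u

namespace CfsgLib.RootInv99

open Cfsg CfsgLib.RootInv CfsgLib.RootInv.OddCommon

variable {G : Type u} [Group G] [Finite G] {D : Set G}

namespace Full

variable (h : Full D) {d x v z g : G}

include h

omit [Finite G] h in
/-- The spans of two pairs centralising each other centralise each other. -/
theorem commute_spans (hd : d ∈ D) (hx : x ∈ D) (hz : z ∈ D) (hvd : Commute v d) (hvx : Commute v x)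
    (hzd : Commute z d) (hzx : Commute z x) {p q : G} (hp : p ∈ span D d x) (hq : q ∈ span D v z) :
    Commute p q := by
  have key : ∀ y, y ∈ D → Commute y d → Commute y x → Commute y p := fun y hy hyd hyx =>
    commute_of_mem (fun e he => (same_commute_iff he hy).1 hyd) hyx hp
  exact commute_of_mem (D := D) (d := v) (x := z) (fun e he => (key e he.1
    ((same_commute_iff he hd).1 hvd.symm).symm ((same_commute_iff he hx).1 hvx.symm).symm).symm)
    (key z hz hzd hzx).symm hq

/-- With one member per image there is no quadrangle. -/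
theorem quad_one (hd : d ∈ D) (hx : x ∈ oddPartners D d) (hv : v ∈ D) (hz : z ∈ D)
    (hvz : ¬ Commute v z) (hvd : Commute v d) (hvx : Commute v x) (hzd : Commute z d)
    (hzx : Commute z x) (hm : mult D v = 1) : False := by
  have hdx : ¬ Commute d x := not_commute_of_odd h.cx.ot.1 hd hx.1 hx.2.1.symm hx.2.2
  obtain ⟨l₁, l₂, hl⟩ := h.cx.line
  have hXY : ∀ {p q : G}, p ∈ span D d x → q ∈ span D v z → Commute p q := fun hp hq =>
    commute_spans hd hx.1 hz hvd hvx hzd hzx hp hq
  have hpz := h.cx.oddPartners_of hv hz hvz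
  have heq : ∀ {m u w : G}, m ∈ D → ∀ (hu : u ∈ pts D m) (hw : w ∈ pts D m), img hw = img hu →
      w = u := by
    intro m u w hmD hu hw he
    have h1 : (lam (pts D m) (img hu)).ncard = 1 := by rw [h.mult_eq hmD hu, h.mult_const hmD hv, hm]
    obtain ⟨c, hc⟩ := Set.ncard_eq_one.1 h1
    exact (hc.subset (show w ∈ lam (pts D m) (img hu) from ⟨hw, he⟩) : w = c).trans
      (hc.subset (show u ∈ lam (pts D m) (img hu) from ⟨hu, rfl⟩) : u = c).symm
  have step : ∀ {a b a' b' : G}, a ∈ D → b ∈ oddPartners D a → a' ∈ D → b' ∈ D → ¬ Commute a' b' →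
      (∀ {p q : G}, p ∈ span D a b → q ∈ span D a' b' → Commute p q) →
      ∀ m ∈ D, m ∈ span D a b → ∀ u ∈ D, Commute u m → u ∈ span D a b ∨ u ∈ span D a' b' := by
    intro a b a' b' ha hb ha' hb' hab' hc m hmD hmX u hu hum
    by_cases hE : u ∈ sameCommutingClass D m
    · exact Or.inl (twins_subset_span h.cx.ot h.cx.one hl ha hb hmD hmX hE)
    have Cm := h.sc m hmD
    have hup : u ∈ pts D m := ⟨hu, hum, hE⟩
    have hca : Commute a' m := (hc hmX (left_mem_span ha' b')).symm
    have hcb : Commute b' m := (hc hmX (right_mem_span a' b')).symm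
    obtain ⟨w, hw, hwY, he⟩ := Cm.exists_span_img h.cx (h.mem_pts hab' ha' hb' hca hcb)
      (h.mem_pts (fun hh => hab' hh.symm) hb' ha' hcb hca) hab' (Cm.orderOf_img hup)
    exact Or.inr (heq hmD hup hw he ▸ hwY)
  have hall : ∀ u ∈ D, u ∈ span D d x ∨ u ∈ span D v z := by
    intro u hu
    have hpath := h.cx.conn d hd u hu
    induction hpath with
    | refl => exact Or.inl (left_mem_span hd x)
    | tail _ hbc ih =>
      rcases ih hbc.1 with hb' | hb'
      · exact step hd hx hv hz hvz hXY _ hbc.1 hb' _ hbc.2.1 hbc.2.2.2.symm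
      · exact (step hv hpz hd hx.1 hdx (fun hp hq => (hXY hq hp).symm) _ hbc.1 hb' _ hbc.2.1
          hbc.2.2.2.symm).symm
  have hT : {u | u ∈ D ∧ u ∈ span D d x} = D := by
    refine h.eq_of_invariant (fun u hu => hu.1) ⟨d, hd, left_mem_span hd x⟩ fun t ht m hm => ?_
    refine ⟨h.cx.ot.1.conj_mem m hm.1 t, ?_⟩
    rcases hall t ht with htX | htY
    · exact mul_mem (mul_mem htX hm.2) (inv_mem htX)
    · rw [← (hXY hm.2 htY).eq, mul_inv_cancel_right]
      exact hm.2
  have hvX : v ∈ span D d x := (hT.ge hv).2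
  exact hvz ((same_commute_iff (twins_symm
    (same_of_mem h.cx.ot h.cx.one hl hd hx hv hvd hvX) hd) hz).2 hzd).symm

/-- An element of 2-power order in the span, of order four in the component and centralising the
twins. -/
theorem exists_four (hd : d ∈ pts D v) (hx : x ∈ pts D v) (hv : v ∈ D) (hdx : ¬ Commute d x) :
    ∃ g : G, ∃ hgM : g ∈ Subgroup.closure (pts D v), g ∈ span D d x ∧ (∃ k, g ^ 2 ^ k = 1) ∧
      Commute (bar (⟨g, hgM⟩ : ↥(Subgroup.closure (pts D v)))) (img hd) ∧
      orderOf (bar (⟨g, hgM⟩ : ↥(Subgroup.closure (pts D v)))) = 4 ∧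
      ∀ e ∈ sameCommutingClass D d, Commute g e := by
  have C := h.sc v hv
  have : Fact (Nat.Prime 2) := ⟨Nat.prime_two⟩
  obtain ⟨t, htd, ht4⟩ := C.szK.four (img hd) (C.orderOf_img hd)
  obtain ⟨hbad, hsurj⟩ := C.bad_surj h.cx hd hx hdx
  obtain ⟨g', hg'⟩ := hsurj t
  haveI := hbad.simple
  haveI := isSolvable_ker_spanHom (C.span_le h.cx hd hx)
  have hker : g' ^ 4 ∈ pCore 2 ↥(span D d x) := by
    refine ker_le_core hbad.not_solvable (spanHom (C.span_le h.cx hd hx)) (MonoidHom.mem_ker.2 ?_)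
    rw [map_pow, hg', ← ht4, pow_orderOf_eq_one]
  obtain ⟨k, hk⟩ := LocalP.isPGroup_pCore (G := ↥(span D d x)) (p := 2) ⟨_, hker⟩
  have hk' : (g' : G) ^ 2 ^ (k + 2) = 1 := by
    have h1 := congrArg (fun z : ↥(pCore 2 ↥(span D d x)) => ((z : ↥(span D d x)) : G)) hk
    simp only [SubmonoidClass.coe_pow, OneMemClass.coe_one] at h1
    rw [show 2 ^ (k + 2) = 4 * 2 ^ k by ring, pow_mul]
    exact h1
  have hgM := C.span_le h.cx hd hx g'.2
  have hbar : bar (⟨(g' : G), hgM⟩ : ↥(Subgroup.closure (pts D v))) = t := hg'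
  refine ⟨g', hgM, g'.2, ⟨_, hk'⟩, hbar ▸ htd, hbar ▸ ht4, fun e he => ?_⟩
  have heM := C.twins_mem h.cx hd he
  have hce : Commute t (img heM) :=
    C.szK.trans (C.orderOf_img heM) (C.orderOf_img hd)
      ((C.commute_iff heM hd).1 (same_commute hd.1 he ⟨hd.1, rfl⟩)) htd
  have hconj := C.conj_mem hgM heM
  have := C.span_img_inj h.cx hd hx hdx hconj heM (mul_mem (mul_mem g'.2 (twin_mem_span he))
    (inv_mem g'.2)) (twin_mem_span he) (by
      rw [C.img_conj heM hgM, hbar, hce.eq, mul_inv_cancel_right])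
  exact mul_inv_eq_iff_eq_mul.1 this

/-- An element fixing `d` and centralising a span in its component preserves images. -/
theorem img_fixed (hd : d ∈ D) (hv : v ∈ pts D d) (hz : z ∈ pts D d) (hvz : ¬ Commute v z)
    (hgd : Commute g d) (hgY : ∀ q ∈ span D v z, Commute g q) {m : G} (hm : m ∈ pts D d) :
    ∃ hm' : g * m * g⁻¹ ∈ pts D d, img hm' = img hm := by
  have Cd := h.sc d hd
  have hpres : ∀ u ∈ pts D d, g * u * g⁻¹ ∈ pts D d := fun u hu => by
    have e : g * d * g⁻¹ = d := by rw [hgd.eq, mul_inv_cancel_right]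
    refine ⟨h.cx.ot.1.conj_mem u hu.1 g, e ▸ (Commute.conj_iff g).2 hu.2.1, fun hE => hu.2.2 ?_⟩
    rw [← e] at hE
    have := conj_mem_twins h.cx.ot hE g⁻¹
    simpa [mul_assoc] using this
  set W := Subgroup.closure (pts D d) with hW
  have hle : W.map (MulAut.conj g).toMonoidHom ≤ W := by
    rw [hW, MonoidHom.map_closure, Subgroup.closure_le]
    rintro _ ⟨u, hu, rfl⟩
    exact Subgroup.subset_closure (hpres u hu)
  let f : ↥W →* ↥W := ((MulAut.conj g).toMonoidHom.comp W.subtype).codRestrict W fun w =>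
    hle (Subgroup.mem_map_of_mem _ w.2)
  have hfinj : Function.Injective f := fun p q e =>
    Subtype.ext ((MulAut.conj g).injective (congrArg Subtype.val e))
  have hfs : Function.Surjective f := Finite.surjective_of_injective hfinj
  obtain ⟨c₁, c₂, hl⟩ := Cd.disc.line
  haveI : ((twoZCore ↥W).map f).Normal := Subgroup.Normal.map (twoZCore_normal _) f hfs
  have hN : (twoZCore ↥W).map f ≤ twoZCore ↥W := by
    refine (eq_top_or_le_twoZCore Cd.disc.ot.1 Cd.disc.one hl _).resolve_left fun e => ?_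
    refine twoZCore_ne_top Cd.disc.ot.1 Cd.disc.one hl (eq_top_iff.2 fun w _ => ?_)
    obtain ⟨w', hw', he⟩ := (e ▸ Subgroup.mem_top (f w) : f w ∈ (twoZCore ↥W).map f)
    rwa [← hfinj he]
  obtain ⟨m', hm', hY, he⟩ := Cd.exists_span_img h.cx hv hz hvz (Cd.orderOf_img hm)
  refine ⟨hpres m hm, ?_⟩
  have hz' : (inH hm')⁻¹ * inH hm ∈ twoZCore ↥W := by
    refine bar_eq_one.1 ?_
    rw [map_mul, map_inv]
    show (img hm')⁻¹ * img hm = 1
    rw [he, inv_mul_cancel]
  have h1 := bar_eq_one.2 (hN (Subgroup.mem_map_of_mem f hz'))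
  rw [map_mul, map_inv, map_mul, map_inv,
    show f (inH hm') = inH hm' from Subtype.ext (show g * m' * g⁻¹ = m' by
      rw [(hgY m' hY).eq, mul_inv_cancel_right])] at h1
  exact (inv_mul_eq_one.1 h1).symm.trans he

/-- An element of 2-power order centralising `E_d` and a span in the component at `d` centralises
another member with the image of `v`, and then everything commuting with `d`. -/
theorem exists_fixed (hd : d ∈ D) (hv : v ∈ pts D d) (hz : z ∈ pts D d) (hvz : ¬ Commute v z)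
    (hm : mult D v = rootOrder D v ^ 2) (hg2 : ∃ k, g ^ 2 ^ k = 1)
    (hgE : ∀ e ∈ sameCommutingClass D d, Commute g e) (hgY : ∀ q ∈ span D v z, Commute g q) :
    ∃ c, ∃ hc : c ∈ pts D d, c ≠ v ∧ img hc = img hv ∧
      ∀ u ∈ D, Commute u d → Commute g u := by
  classical
  have : Fact (Nat.Prime 2) := ⟨Nat.prime_two⟩
  have Cd := h.sc d hd
  have hgd : Commute g d := hgE d ⟨hd, rfl⟩
  have hgv : Commute g v := hgY v (left_mem_span hv.1 z)
  have hrd : rootOrder D d = rootOrder D v := h.rootOrder_pts hv.1 hd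
  have hlam : ∀ {m : G} (hm' : m ∈ pts D d),
      (lam (pts D d) (img hm')).ncard = rootOrder D d ^ 2 := fun hm' => by
    rw [h.mult_eq hd hm', h.mult_const hd hv.1, hm, hrd]
  -- a second fixed member with the image of `v`
  set Λ := lam (pts D d) (img hv)
  have hmap : ∀ u ∈ Λ, g * u * g⁻¹ ∈ Λ := by
    rintro u ⟨hu, hue⟩
    obtain ⟨hu', he⟩ := h.img_fixed hd hv hz hvz hgd hgY hu
    exact ⟨hu', he.trans hue⟩
  let φ : ↑Λ → ↑Λ := fun u => ⟨g * u * g⁻¹, hmap u u.2⟩
  have hφ : Function.Injective φ := fun p q e =>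
    Subtype.ext (mul_left_cancel (mul_right_cancel (congrArg Subtype.val e)))
  let σ : Equiv.Perm ↑Λ := Equiv.ofBijective φ ⟨hφ, Finite.surjective_of_injective hφ⟩
  have hσpow : ∀ (n : ℕ) (u : ↑Λ), ((σ ^ n) u : G) = g ^ n * u * (g ^ n)⁻¹ := by
    intro n
    induction n with
    | zero => intro u; simp
    | succ n ih =>
      intro u
      rw [pow_succ, Equiv.Perm.mul_apply, ih, pow_succ, mul_inv_rev]
      show g ^ n * (g * u * g⁻¹) * _ = _
      group
  obtain ⟨k, hk⟩ := hg2
  have hσ : σ ^ 2 ^ k = 1 := Equiv.ext fun u => Subtype.ext (by rw [hσpow, hk]; simp)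
  letI := Fintype.ofFinite ↑Λ
  have hdvd : 2 ∣ Fintype.card ↑Λ := by
    rw [← Nat.card_eq_fintype_card, Nat.card_coe_set_eq, hlam hv]
    obtain ⟨m, -, hq⟩ := Cd.szK.q_pow
    rw [hq]
    exact dvd_pow (dvd_pow_self 2 (by omega)) two_ne_zero
  have hv0 : σ ⟨v, hv, rfl⟩ = ⟨v, hv, rfl⟩ := Subtype.ext (show g * v * g⁻¹ = v by
    rw [hgv.eq, mul_inv_cancel_right])
  obtain ⟨⟨c, hc, hce⟩, hσc, hne⟩ := Equiv.Perm.exists_fixed_point_of_prime' hdvd hσ hv0
  have hcv : c ≠ v := fun e => hne (Subtype.ext e)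
  have hgc : Commute g c := mul_inv_eq_iff_eq_mul.1 (congrArg Subtype.val hσc)
  refine ⟨c, hc, hcv, hce, ?_⟩
  have hgEc : ∀ e ∈ sameCommutingClass D c, Commute g e := fun e he => by
    have heM := Cd.twins_mem h.cx hc he
    obtain ⟨he', hee⟩ := h.img_fixed hd hv hz hvz hgd hgY heM
    have h1 := conj_mem_twins h.cx.ot he g
    rw [hgc.eq, mul_inv_cancel_right] at h1
    exact mul_inv_eq_iff_eq_mul.1 (Cd.twin_img_inj h.cx he' heM
      (twins_eq h1 ▸ he) hee)
  -- the members commuting with `d` and `z`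
  have hgz : ∀ m ∈ pts D d, Commute m z → Commute g m := by
    intro m hm' hmz
    obtain ⟨z', hz', hzY, hze⟩ := Cd.exists_span_img h.cx hv hz hvz (Cd.orderOf_img hm')
    have hzm : Commute z' m := (Cd.commute_iff hz' hm').2 (by rw [hze])
    have hvz' : ¬ Commute v z' := fun hh =>
      hvz (Cd.trans hz' hv hz hh.symm (Cd.trans hm' hz' hz hzm.symm hmz))
    have hY' := Cd.span_eq h.cx hv hz hvz hv hz' (left_mem_span hv.1 z) hzY hvz'
    have hsub : {w | w ∈ lam (pts D d) (img hz') ∧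
        ∃ p ∈ span D v z', p ∈ pts D d ∧ w ∈ span D c p} ⊆ lam (pts D d) (img hz') := fun w hw => hw.1
    have heq := Set.eq_of_subset_of_ncard_le hsub
      ((hlam hz').le.trans (Cd.sq_le_spanned h.cx hv hz' hvz' hc hcv hce)) (Set.toFinite _)
    obtain ⟨-, p, hp, -, hw⟩ := heq.ge (⟨hm', hze.symm⟩ : m ∈ lam (pts D d) (img hz'))
    exact commute_of_mem hgEc (hgY p (hY'.le hp)) hw
  intro u hu hud
  by_cases hE : u ∈ sameCommutingClass D d
  · exact hgE u hE
  · exact Cd.commute_all h.cx hz hv (fun hh => hvz hh.symm) hgz hgv u ⟨hu, hud, hE⟩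

/-- Two odd pairs cannot centralise each other. -/
theorem no_quadrangle (hd : d ∈ D) (hx : x ∈ oddPartners D d) (hv : v ∈ D) (hz : z ∈ D)
    (hvz : ¬ Commute v z) (hvd : Commute v d) (hvx : Commute v x) (hzd : Commute z d)
    (hzx : Commute z x) : False := by
  have hdx : ¬ Commute d x := not_commute_of_odd h.cx.ot.1 hd hx.1 hx.2.1.symm hx.2.2
  have C := h.sc v hv
  have hdM : d ∈ pts D v := h.mem_pts hdx hd hx.1 hvd.symm hvx.symm
  have hxM : x ∈ pts D v := h.mem_pts (fun hh => hdx hh.symm) hx.1 hd hvx.symm hvd.symm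
  rcases h.mult_cases hv hdM with hm | hm
  · exact h.quad_one hd hx hv hz hvz hvd hvx hzd hzx hm
  have Cd := h.sc d hd
  have hvD : v ∈ pts D d := h.mem_pts hvz hv hz hvd hzd
  have hzD : z ∈ pts D d := h.mem_pts (fun hh => hvz hh.symm) hz hv hzd hvd
  obtain ⟨g, hgM, hgX, hg2, hgd, hg4, hgE⟩ := h.exists_four hdM hxM hv hdx
  obtain ⟨c, hc, hcv, hce, hgall⟩ := h.exists_fixed hd hvD hzD hvz hm hg2 hgE
    fun q hq => commute_spans hd hx.1 hz hvd hvx hzd hzx hgX hq
  have hcvc : Commute c v := Cd.commute_of_img_eq hc hvD hce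
  have hcM : c ∈ pts D v :=
    ⟨hc.1, hcvc, fun hE => hcv (Cd.twin_img_inj h.cx hvD hc hE hce.symm).symm⟩
  set t := bar (⟨g, hgM⟩ : ↥(Subgroup.closure (pts D v)))
  have hdc : Commute d c := hc.2.1.symm
  have hcd' : Commute (img hcM) (img hdM) := (C.commute_iff hcM hdM).1 hdc.symm
  have htc : Commute t (img hcM) := C.szK.trans (C.orderOf_img hcM) (C.orderOf_img hdM) hcd' hgd
  have hdx' : ¬ Commute (img hdM) (img hxM) := fun hh => hdx ((C.commute_iff hdM hxM).2 hh)
  have ht2 : t * t ≠ 1 := fun e => by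
    have := Nat.le_of_dvd two_pos (orderOf_dvd_of_pow_eq_one ((pow_two t).trans e))
    omega
  have hgc : Commute g c := hgall c hc.1 hc.2.1
  -- the conjugate of `x` by `g c`
  have hρ : g * c ∈ Subgroup.closure (pts D v) := mul_mem hgM (Subgroup.subset_closure hcM)
  have hτ : bar (⟨g * c, hρ⟩ : ↥(Subgroup.closure (pts D v))) = t * img hcM := map_mul bar (⟨g, hgM⟩ : ↥(Subgroup.closure (pts D v))) (inH hcM)
  have hτ1 : t * img hcM ≠ 1 := fun e => ht2 (by
    have h1 : (t * img hcM) ^ 2 = 1 := by rw [e, one_pow]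
    rwa [htc.mul_pow, sq_eq_one_of_orderOf_two (C.orderOf_img hcM), mul_one, pow_two] at h1)
  have hx' := C.conj_mem hρ hxM
  have hxx : ¬ Commute x (g * c * x * (g * c)⁻¹) := fun hh => by
    have h1 := (C.commute_iff hxM hx').1 hh
    rw [C.img_conj hxM hρ, hτ] at h1
    exact C.szK.regular (C.orderOf_img hdM) (C.orderOf_img hxM) hdx' (hgd.mul_left hcd') hτ1 h1.symm
  -- a member of their span with the image of `d`
  obtain ⟨e, he, heS, hee⟩ := C.exists_span_img h.cx hxM hx' hxx (C.orderOf_img hdM)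
  have hed : Commute e d := (C.commute_iff he hdM).2 (by rw [hee])
  have hex : ¬ Commute e x := fun hh => hdx' (hee ▸ (C.commute_iff he hxM).1 hh)
  have hS := C.span_eq h.cx hxM hx' hxx he hxM heS (left_mem_span hx.1 _) hex
  set S := span D e x
  have hSfix : ∀ s ∈ S, g * c * s * (g * c)⁻¹ ∈ S := by
    intro s hs
    induction hs using Subgroup.closure_induction with
    | mem p hp =>
      rcases hp with hp | rfl
      · have hpd : Commute p d := ((same_commute_iff hp hd).1 hed.symm).symm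
        have hpM := C.twins_mem h.cx he hp
        have hcp : Commute c p := C.trans hdM hcM hpM hdc hpd.symm
        have : Commute (g * c) p := (hgall p hp.1 hpd).mul_left hcp
        rw [this.eq, mul_inv_cancel_right]
        exact twin_mem_span hp
      · exact hS.ge (right_mem_span _ _)
    | one => simp
    | mul p q _ _ hp hq =>
      rw [show g * c * (p * q) * (g * c)⁻¹ = g * c * p * (g * c)⁻¹ * (g * c * q * (g * c)⁻¹) by group]
      exact mul_mem hp hq
    | inv p _ hp =>
      rw [show g * c * p⁻¹ * (g * c)⁻¹ = (g * c * p * (g * c)⁻¹)⁻¹ by group]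
      exact inv_mem hp
  have hx'' : g * g * x * (g * g)⁻¹ ∈ S := by
    have h1 := hSfix _ (hSfix x (right_mem_span e x))
    rwa [show g * c * (g * c * x * (g * c)⁻¹) * (g * c)⁻¹ = g * c * (g * c) * x * (g * c * (g * c))⁻¹ by
      group, show g * c * (g * c) = g * (c * g) * c by group, ← hgc.eq,
      show g * (g * c) * c = g * g * (c * c) by group, mul_self h.cx.ot.1 hc.1, mul_one] at h1
  have hgg := mul_mem hgM hgM
  have hx''M := C.conj_mem hgg hxM
  have hxx'' : ¬ Commute x (g * g * x * (g * g)⁻¹) := fun hh => by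
    have h1 := (C.commute_iff hxM hx''M).1 hh
    rw [C.img_conj hxM hgg, show bar (⟨g * g, hgg⟩ : ↥(Subgroup.closure (pts D v))) = t * t from
      map_mul bar (⟨g, hgM⟩ : ↥(Subgroup.closure (pts D v))) ⟨g, hgM⟩] at h1
    exact C.szK.regular (C.orderOf_img hdM) (C.orderOf_img hxM) hdx' (hgd.mul_left hgd) ht2 h1.symm
  have hSX : S = span D d x :=
    (C.span_eq h.cx he hxM hex hxM hx''M (right_mem_span e x) hx'' hxx'').symm.trans
      (C.span_eq h.cx hdM hxM hdx hxM hx''M (right_mem_span d x)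
        (mul_mem (mul_mem (mul_mem hgX hgX) (right_mem_span d x)) (inv_mem (mul_mem hgX hgX))) hxx'')
  -- hence `c` lies in the span
  have hcM' : c ∈ Subgroup.closure (pts D v) := Subgroup.subset_closure hcM
  have hyM := C.conj_mem hcM' hxM
  have hyX : c * x * c⁻¹ ∈ span D d x := by
    have h1 := mul_mem (mul_mem (inv_mem hgX) (hSX ▸ hSfix x (right_mem_span e x))) hgX
    rwa [show g⁻¹ * (g * c * x * (g * c)⁻¹) * g = c * x * c⁻¹ by group] at h1
  have hcx : ¬ Commute c x := fun hh => hdx (C.trans hcM hdM hxM hdc.symm hh)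
  have hxy : ¬ Commute x (c * x * c⁻¹) := fun hh => by
    have h1 := (C.commute_iff hxM hyM).1 hh
    rw [C.img_conj hxM hcM'] at h1
    exact C.szK.regular (C.orderOf_img hdM) (C.orderOf_img hxM) hdx' hcd'
      (fun e => by simpa [e] using C.orderOf_img hcM) h1.symm
  have hcS : c ∈ span D d x := by
    rw [← C.span_eq h.cx hdM hxM hdx hxM hyM (right_mem_span d x) hyX hxy,
      C.span_eq h.cx hcM hxM hcx hxM hyM (right_mem_span c x)
        (mul_mem (mul_mem (left_mem_span hc.1 x) (right_mem_span c x))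
          (inv_mem (left_mem_span hc.1 x))) hxy]
    exact left_mem_span hc.1 x
  obtain ⟨l₁, l₂, hl⟩ := h.cx.line
  exact hc.2.2 (same_of_mem h.cx.ot h.cx.one hl hd hx hc.1 hdc.symm hcS)

end Full

end CfsgLib.RootInv99
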