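import Cfsg.Agent.RootInvolutions.NoSuzuki99.Main
import Cfsg.Agent.Cores.TwoGenSylow

/-!
The span of an odd pair in a simple configuration is `L₂(q)`.
-/

set_option autoImplicit false

universe u

namespace CfsgLib.RootInv99

open Cfsg CfsgLib.RootInv CfsgLib.RootInv.OddCommon

variable {G : Type u} [Group G] [Finite G] {D : Set G}

theorem simple_of_core_center (hD : IsOddTranspositionSet D) (hone : OneClass D) {a b : G}
    (hl : Line D a b) (hO : pCore 2 G = ⊥) (hZ : Subgroup.center G = ⊥) : IsSimpleGroup G := by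
  have hz : twoZCore G = ⊥ := by
    rw [eq_bot_iff]
    intro n hn
    rw [← hZ, Subgroup.mem_center_iff]
    intro g
    have h1 : QuotientGroup.mk' (pCore 2 G) g * QuotientGroup.mk' (pCore 2 G) n =
        QuotientGroup.mk' (pCore 2 G) n * QuotientGroup.mk' (pCore 2 G) g :=
      Subgroup.mem_center_iff.1 hn _
    rw [← map_mul, ← map_mul] at h1
    have h2 := QuotientGroup.eq.1 h1
    rw [hO, Subgroup.mem_bot] at h2
    exact inv_mul_eq_one.1 h2
  haveI : Nontrivial G := ⟨⟨a, 1, ne_one hD.1 hl.1⟩⟩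
  refine ⟨fun N hN => ?_⟩
  rcases eq_top_or_le_twoZCore hD.1 hone hl N with h | h
  · exact Or.inr h
  · exact Or.inl (le_bot_iff.1 (hz ▸ h))

variable (h : Cx D) {d x : G}

include h

theorem card_closure_twins (hd : d ∈ D) :
    Nat.card ↥(Subgroup.closure (sameCommutingClass D d)) = rootOrder D d := by
  obtain ⟨l₁, l₂, hl⟩ := h.line
  obtain ⟨x, hx⟩ := h.exists_partner hd
  have hset : (Subgroup.closure (sameCommutingClass D d) : Set G) =
      insert 1 (sameCommutingClass D d) := by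
    ext e
    refine ⟨fun he => (em (e = 1)).imp id
      (mem_twins_of_mem_closure h.ot h.one hl hd hx h.pCore_eq_bot he), ?_⟩
    rintro (rfl | he)
    · exact one_mem _
    · exact Subgroup.subset_closure he
  show Nat.card ↑(Subgroup.closure (sameCommutingClass D d) : Set G) = _
  rw [Nat.card_coe_set_eq, hset, Set.ncard_insert_of_notMem (fun h1 => ne_one h.ot.1 h1.1 rfl)
    (Set.toFinite _), rootOrder]

/-- The 2-core of a span is central. -/
theorem core_le_center (hd : d ∈ D) (hx : x ∈ oddPartners D d) :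
    pCore 2 ↥(span D d x) ≤ Subgroup.center ↥(span D d x) := by
  have : Fact (Nat.Prime 2) := ⟨Nat.prime_two⟩
  obtain ⟨l₁, l₂, hl⟩ := h.line
  set π := QuotientGroup.mk' (pCore 2 ↥(span D d x))
  have hfix : ∀ n ∈ pCore 2 ↥(span D d x), ∀ e ∈ sameCommutingClass D d, Commute (n : G) e := by
    intro n hn e he
    have hwS : (n : G) * e * (n : G)⁻¹ ∈ span D d x :=
      mul_mem (mul_mem n.2 (twin_mem_span he)) (inv_mem n.2)
    have hwD := h.ot.1.conj_mem e he.1 (n : G)
    have himg : π ⟨_, hwS⟩ = π ⟨e, twin_mem_span he⟩ := by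
      rw [show (⟨_, hwS⟩ : ↥(span D d x)) = n * ⟨e, twin_mem_span he⟩ * n⁻¹ from rfl, map_mul,
        map_mul, map_inv, show π n = 1 from (QuotientGroup.eq_one_iff _).2 hn, one_mul, inv_one,
        mul_one]
    have hwe : Commute ((n : G) * e * (n : G)⁻¹) e := by
      rcases odd_or_commute h.ot hwD he.1 with hc | ho
      · exact hc
      have h1 : π (⟨_, hwS⟩ * ⟨e, twin_mem_span he⟩) = 1 := by
        rw [map_mul, himg, ← map_mul, show (⟨e, twin_mem_span he⟩ : ↥(span D d x)) *
          ⟨e, twin_mem_span he⟩ = 1 from Subtype.ext (mul_self h.ot.1 he.1), map_one]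
      obtain ⟨k, hk⟩ := LocalP.isPGroup_pCore (G := ↥(span D d x)) (p := 2)
        ⟨_, (QuotientGroup.eq_one_iff _).1 h1⟩
      have hk' : (((n : G) * e * (n : G)⁻¹) * e) ^ 2 ^ k = 1 := by
        have h2 := congrArg (fun z : ↥(pCore 2 ↥(span D d x)) => ((z : ↥(span D d x)) : G)) hk
        simpa using h2
      rw [(eq_inv_of_mul_eq_one_left (eq_one_of_two_pow_of_odd hk' ho)).trans (inv_self h.ot.1 he.1)]
    have hwE := same_of_mem h.ot h.one hl hd hx hwD ((same_commute_iff he hwD).2 hwe) hwS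
    exact mul_inv_eq_iff_eq_mul.1 (twin_eq_of_image h.ot h.one hl hd hx h.pCore_eq_bot hwE he himg)
  intro n hn
  rw [Subgroup.mem_center_iff]
  intro g
  refine Subtype.ext (commute_of_mem (i := (n : G)) (hfix n hn) ?_ g.2).eq.symm
  rcases exists_conj_in_span h.ot h.one hl hd hx hx.1 (right_mem_span d x) with hE | ⟨c, hc, hcx⟩
  · exact hfix n hn x hE
  have h1 := hfix _ ((inferInstance : (pCore 2 ↥(span D d x)).Normal).conj_mem n hn (⟨c, hc⟩⁻¹)) d
    ⟨hd, rfl⟩
  have h2 := (Commute.conj_iff c).2 h1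
  rw [hcx] at h2
  convert h2 using 1
  simp [mul_assoc]

/-- A span is perfect. -/
theorem span_perfect (hd : d ∈ D) (hx : x ∈ oddPartners D d) :
    commutator ↥(span D d x) = ⊤ := by
  obtain ⟨l₁, l₂, hl⟩ := h.line
  set α := Abelianization.of (G := ↥(span D d x))
  have hodd : ∀ (u w : G) (hu : u ∈ span D d x) (hw : w ∈ span D d x), u ∈ D → w ∈ D →
      Odd (orderOf (u * w)) → α ⟨u, hu⟩ = α ⟨w, hw⟩ := by
    intro u w hu hw huD hwD ho
    have h2 : α ⟨u, hu⟩ * α ⟨u, hu⟩ = 1 := by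
      rw [← map_mul, show (⟨u, hu⟩ : ↥(span D d x)) * ⟨u, hu⟩ = 1 from
        Subtype.ext (mul_self h.ot.1 huD), map_one]
    have h3 : α ⟨w, hw⟩ * α ⟨w, hw⟩ = 1 := by
      rw [← map_mul, show (⟨w, hw⟩ : ↥(span D d x)) * ⟨w, hw⟩ = 1 from
        Subtype.ext (mul_self h.ot.1 hwD), map_one]
    have h4 : α (⟨u, hu⟩ * ⟨w, hw⟩) * α (⟨u, hu⟩ * ⟨w, hw⟩) = 1 := by
      rw [map_mul, mul_mul_mul_comm, h2, h3, one_mul]
    have ho' : Odd (orderOf ((⟨u, hu⟩ : ↥(span D d x)) * ⟨w, hw⟩)) := by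
      rw [← Subgroup.orderOf_coe]; exact ho
    have h5 := eq_one_of_sq_of_odd h4 (ho'.of_dvd_nat (orderOf_map_dvd α _))
    rw [map_mul] at h5
    exact (eq_inv_of_mul_eq_one_left h5).trans (inv_eq_of_mul_eq_one_right h3)
  have hdS := left_mem_span hd x
  have hxS := right_mem_span (D := D) d x
  have hall : ∀ e (he : e ∈ sameCommutingClass D d),
      α ⟨e, twin_mem_span he⟩ = α ⟨d, hdS⟩ := fun e he =>
    ((hodd e x (twin_mem_span he) hxS he.1 hx.1 ((odd_or_commute h.ot he.1 hx.1).resolve_left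
      fun hc => not_commute_twin h.ot hd hx he hc.symm))).trans
      (hodd d x hdS hxS hd hx.1 hx.2.2).symm
  obtain ⟨f, hf⟩ := exists_line h.ot.1 h.one hl hd
  have hdf := line_twin h.ot (Line.third h.ot.1 hf)
  have hd1 : α ⟨d, hdS⟩ = 1 := by
    have h1 := hall _ hdf
    rw [show (⟨d * f, twin_mem_span hdf⟩ : ↥(span D d x)) = ⟨d, hdS⟩ * ⟨f, twin_mem_span
      (line_twin h.ot hf)⟩ from rfl, map_mul, hall _ (line_twin h.ot hf)] at h1
    simpa using h1
  rw [← Abelianization.ker_of, MonoidHom.ker_eq_top_iff]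
  refine MonoidHom.eq_of_eqOn_dense (s := ((↑) : ↥(span D d x) → G) ⁻¹'
    (sameCommutingClass D d ∪ {x})) (Subgroup.closure_closure_coe_preimage) ?_
  rintro ⟨u, hu⟩ (hu' | hu')
  · exact ((hall u hu').trans hd1)
  · obtain rfl : u = x := hu'
    exact ((hodd d u hdS hu hd hx.1 hx.2.2).symm.trans hd1)

/-- A span is `L₂(q)`. -/
theorem span_iso (hd : d ∈ D) (hx : x ∈ oddPartners D d) (hflat : TwoFlat (span D d x)) :
    ∃ (F : Type) (_ : Field F) (_ : Fintype F),
      Fintype.card F = Nat.card ↥(Subgroup.closure (sameCommutingClass D d)) ∧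
      Nonempty (↥(span D d x) ≃* Matrix.ProjectiveSpecialLinearGroup (Fin 2) F) := by
  have : Fact (Nat.Prime 2) := ⟨Nat.prime_two⟩
  obtain ⟨l₁, l₂, hl⟩ := h.line
  rcases span_cases h.ot h.one hl hd hx h.pCore_eq_bot criterion with hs |
    ⟨F, hFi, hFt, hF, h4, hq, ⟨i⟩⟩
  · exact absurd hflat (not_twoFlat_of_suzuki hs)
  refine ⟨F, hFi, hFt, by rw [hq, card_closure_twins h hd], ?_⟩
  letI := hFi; letI := hFt; haveI := hF
  suffices hN : pCore 2 ↥(span D d x) = ⊥ from
    ⟨((QuotientGroup.quotientBot.symm).trans (QuotientGroup.quotientMulEquivOfEq hN.symm)).trans i⟩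
  set N := pCore 2 ↥(span D d x) with hN
  obtain ⟨k, hk, hqk⟩ := h.root_pow hd hx
  obtain ⟨j, hj⟩ := (LocalP.isPGroup_pCore (G := ↥(span D d x)) (p := 2)).exists_card_eq
  set q := rootOrder D d
  -- a Sylow subgroup
  have hVle : Subgroup.closure (sameCommutingClass D d) ≤ span D d x :=
    Subgroup.closure_mono Set.subset_union_left
  set V := (Subgroup.closure (sameCommutingClass D d)).subgroupOf (span D d x)
  have hVcard : Nat.card V = q := by
    rw [Nat.card_congr (Subgroup.subgroupOfEquivOfLe hVle).toEquiv, card_closure_twins h hd]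
  have hVp : IsPGroup 2 V := IsPGroup.of_card (hVcard.trans hqk)
  have hVN : V ⊓ N = ⊥ := by
    rw [eq_bot_iff]
    rintro ⟨v, hv⟩ ⟨hvV, hvN⟩
    by_contra hv1
    exact notMem_core h.ot h.one hl hd hx
      (mem_twins_of_mem_closure h.ot h.one hl hd hx h.pCore_eq_bot hvV fun e =>
        hv1 (Subgroup.mem_bot.2 (Subtype.ext e))).1 hv hvN
  set S := V ⊔ N
  have hSp : IsPGroup 2 S := hVp.to_sup_of_normal_right LocalP.isPGroup_pCore
  have hScard : q * 2 ^ j ≤ Nat.card S := by
    rw [← hVcard, ← hj, ← Nat.card_prod]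
    refine Nat.card_le_card_of_injective
      (fun p : V × N => (⟨(p.1 : ↥(span D d x)) * p.2, Subgroup.mul_mem_sup p.1.2 p.2.2⟩ : S)) ?_
    intro p r e
    exact Subgroup.mul_injective_of_disjoint (disjoint_iff.2 hVN) (congrArg Subtype.val e)
  have hXcard : Nat.card ↥(span D d x) = (q * 2 ^ j) * (q ^ 2 - 1) := by
    rw [Subgroup.card_eq_card_quotient_mul_card_subgroup N, card_psl_even i, hq, hj]
    ring
  have hodd : ¬ 2 ∣ q ^ 2 - 1 := by
    have h1 : 2 ∣ q ^ 2 := dvd_pow (hqk ▸ dvd_pow_self 2 (by omega)) two_ne_zero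
    have h2 : 1 ≤ q ^ 2 := Nat.one_le_pow _ _ (by rw [hqk]; positivity)
    omega
  have hidx : ¬ 2 ∣ S.index := by
    obtain ⟨a, ha⟩ := hSp.exists_card_eq
    have h1 := S.card_mul_index
    rw [hXcard] at h1
    have hco : Nat.Coprime (Nat.card S) (q ^ 2 - 1) := by
      rw [ha]
      exact Nat.Coprime.pow_left a ((Nat.Prime.coprime_iff_not_dvd Nat.prime_two).2 hodd)
    have h2 : Nat.card S = q * 2 ^ j := le_antisymm
      (Nat.le_of_dvd (by rw [hqk]; positivity) (hco.dvd_of_dvd_mul_right ⟨S.index, h1.symm⟩)) hScard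
    rw [h2] at h1
    rw [Nat.eq_of_mul_eq_mul_left (by rw [hqk]; positivity) h1]
    exact hodd
  let P : Sylow 2 ↥(span D d x) := hSp.toSylow hidx
  have hab : ∀ a b : ↥(P : Subgroup ↥(span D d x)), a * b = b * a := by
    have hc : S ≤ Subgroup.centralizer (S : Set ↥(span D d x)) := by
      refine sup_le ?_ ((core_le_center h hd hx).trans (Subgroup.center_le_centralizer _))
      refine fun a ha => Subgroup.mem_centralizer_iff.2 fun b hb => ?_
      have h1 : S ≤ Subgroup.centralizer {a} := sup_le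
        (fun b hb => Subgroup.mem_centralizer_singleton_iff.2
          (Subtype.ext (commute_closure_twins hd hb ha).eq))
        ((core_le_center h hd hx).trans (Subgroup.center_le_centralizer _))
      exact Subgroup.mem_centralizer_singleton_iff.1 (h1 hb)
    exact fun a b => Subtype.ext (Subgroup.mem_centralizer_iff.1 (hc b.2) a a.2)
  rw [eq_bot_iff]
  intro z hz
  exact Subgroup.mem_bot.2 (Cores.center_eq_bot_of_perfect_of_abelian_sylow (span_perfect h hd hx) P
    hab (core_le_center h hd hx hz) (Subgroup.mem_sup_right hz))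

end CfsgLib.RootInv99
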