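import Cfsg.Agent.RootInvolutions.NoSuzuki99.Quadrangle
import Cfsg.Agent.ThreeTransp.SrgCount

/-!
The twin classes form a strongly regular graph whose eigenvalues are irrational: no configuration
with Suzuki components exists.
-/

set_option autoImplicit false

universe u

namespace CfsgLib.RootInv99

open Cfsg CfsgLib.RootInv CfsgLib.RootInv.OddCommon

variable {G : Type u} [Group G] [Finite G] {D : Set G}

/-- A multiple of a square is a square only if the factor is one. -/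
theorem sq_factor {m j D0 : ℤ} (hm : m ≠ 0) (h : m ^ 2 = D0 * j ^ 2) : ∃ t : ℤ, D0 = t ^ 2 := by
  have hj : j ≠ 0 := fun e => hm (by simpa [e] using h)
  obtain ⟨t, rfl⟩ := (Int.pow_dvd_pow_iff two_ne_zero).1 (⟨D0, by linarith⟩ : j ^ 2 ∣ m ^ 2)
  exact ⟨t, mul_right_cancel₀ (pow_ne_zero 2 hj) (by linear_combination -h)⟩

/-- The two discriminants are not squares. -/
theorem not_square_disc {q : ℤ} (hq : 1 ≤ q) (t : ℤ) :
    4 * q ^ 2 + 1 ≠ t ^ 2 ∧ 5 * q ^ 4 ≠ t ^ 2 := by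
  constructor
  · intro h
    rcases (show |t| ≤ 2 * q ∨ 2 * q + 1 ≤ |t| by omega) with hle | hle
    · nlinarith [sq_abs t, abs_nonneg t]
    · nlinarith [sq_abs t, abs_nonneg t]
  · intro h
    obtain ⟨w, hw⟩ := sq_factor (m := t) (j := q ^ 2) (D0 := 5)
      (fun e => by
        rw [e] at h
        have : (0 : ℤ) < q ^ 4 := by positivity
        omega) (by linear_combination -h)
    have h1 : |w| ≤ 2 := by
      by_contra hc
      nlinarith [sq_abs w]
    obtain ⟨h2, h3⟩ := abs_le.1 h1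
    interval_cases w <;> norm_num at hw

namespace Full

variable (h : Full D) {d x u w c : G}

include h

/-- The members commuting with both of an odd pair are the twins of one of them. -/
theorem common_eq (hd : d ∈ D) (hx : x ∈ oddPartners D d) :
    ∃ c ∈ D, {m | m ∈ D ∧ Commute m d ∧ Commute m x} = sameCommutingClass D c := by
  obtain ⟨c, hc, hcd, hcx⟩ := h.cx.common hd hx
  have hdx : ¬ Commute d x := not_commute_of_odd h.cx.ot.1 hd hx.1 hx.2.1.symm hx.2.2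
  refine ⟨c, hc, Set.ext fun m => ⟨fun ⟨hm, hmd, hmx⟩ => ?_, fun hm => ⟨hm.1,
    ((same_commute_iff hm hd).1 hcd.symm).symm, ((same_commute_iff hm hx.1).1 hcx.symm).symm⟩⟩⟩
  by_contra hE
  by_cases hmc : Commute m c
  · have C := h.sc c hc
    exact hdx (C.trans (show m ∈ pts D c from ⟨hm, hmc, hE⟩)
      (h.mem_pts hdx hd hx.1 hcd.symm hcx.symm)
      (h.mem_pts (fun hh => hdx hh.symm) hx.1 hd hcx.symm hcd.symm) hmd hmx)
  · exact h.no_quadrangle hd hx hc hm (fun hh => hmc hh.symm) hcd hcx hmd hmx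

theorem fibre_eq (hu : u ∈ D) (hw : w ∈ pts D u) :
    {m | m ∈ pts D u ∧ Commute m w ∧ m ∉ sameCommutingClass D w}.ncard =
      (mult D u - 1) * (rootOrder D u - 1) := by
  have C := h.sc u hu
  have hsub : sameCommutingClass D w ⊆ {m | m ∈ pts D u ∧ Commute m w} := fun m hm =>
    ⟨C.twins_mem h.cx hw hm, same_commute hw.1 hm ⟨hw.1, rfl⟩⟩
  have hset : {m | m ∈ pts D u ∧ Commute m w ∧ m ∉ sameCommutingClass D w} =
      {m | m ∈ pts D u ∧ Commute m w} \ sameCommutingClass D w := by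
    ext m
    exact ⟨fun ⟨a, b, c⟩ => ⟨⟨a, b⟩, c⟩, fun ⟨⟨a, b⟩, c⟩ => ⟨a, b, c⟩⟩
  rw [hset, Set.ncard_diff hsub, C.ncard_fibre h.cx hw, h.mult_eq hu hw, ← C.rootOrder_mem h.cx hw,
    rootOrder, Nat.sub_mul, one_mul, Nat.add_sub_cancel]

/-- Sets closed under twins are counted by their classes. -/
theorem ncard_classes {r : ℕ} (hr : ∀ p ∈ D, (sameCommutingClass D p).ncard = r) {S : Set G}
    (hS : S ⊆ D) (hcl : ∀ m ∈ S, sameCommutingClass D m ⊆ S) :
    S.ncard = (sameCommutingClass D '' S).ncard * r := by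
  classical
  letI := Fintype.ofFinite G
  rw [Set.ncard_eq_toFinset_card' S, Set.ncard_eq_toFinset_card' (sameCommutingClass D '' S),
    Finset.card_eq_sum_card_fiberwise (t := (sameCommutingClass D '' S).toFinset)
      (f := sameCommutingClass D) fun m hm => by
        simp only [Finset.mem_coe, Set.mem_toFinset] at hm ⊢
        exact Set.mem_image_of_mem _ hm]
  refine Finset.sum_const_nat fun E hE => ?_
  obtain ⟨p, hp, rfl⟩ := Set.mem_toFinset.1 hE
  rw [← hr p (hS hp), Set.ncard_eq_toFinset_card']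
  congr 1
  ext m
  rw [Finset.mem_filter, Set.mem_toFinset, Set.mem_toFinset]
  exact ⟨fun ⟨hm, he⟩ => he ▸ ⟨hS hm, rfl⟩, fun hm => ⟨hcl p hp hm, twins_eq hm⟩⟩

theorem impossible : False := by
  classical
  obtain ⟨d₀, b₀, hl⟩ := h.cx.line
  have hd := hl.1
  have C₀ := h.sc d₀ hd
  obtain ⟨a₀, ha₀⟩ := h.pts_nonempty hd
  have hq8 := C₀.szK.eight_le
  set q := rootOrder D d₀ with hq
  set s := mult D d₀ with hs
  have hcases : s = 1 ∨ s = q ^ 2 := h.mult_cases hd ha₀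
  have hspos : 1 ≤ s := by
    rcases hcases with e | e
    · omega
    · rw [e]; exact Nat.one_le_pow _ _ (by omega)
  set r := q - 1 with hr
  have hr0 : 0 < r := by omega
  have hro : ∀ p ∈ D, rootOrder D p = q := fun p hp => h.rootOrder_pts hd hp
  have hrp : ∀ p ∈ D, (sameCommutingClass D p).ncard = r := fun p hp => by
    have := hro p hp
    unfold rootOrder at this
    omega
  let R : ↥(sameCommutingClass D '' D) → ↥(sameCommutingClass D '' D) → Prop := fun E F =>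
    ∃ a ∈ (E : Set G), ∃ b ∈ (F : Set G), b ∈ pts D a
  let cl : ∀ {p : G}, p ∈ D → ↥(sameCommutingClass D '' D) := fun {p} hp =>
    ⟨_, Set.mem_image_of_mem _ hp⟩
  have hR : ∀ {u w : G} (hu : u ∈ D) (hw : w ∈ D), R (cl hu) (cl hw) ↔ w ∈ pts D u := by
    intro u w hu hw
    refine ⟨fun ⟨a, ha, b, hb, hab⟩ => ⟨hw, ?_, fun hE => hab.2.2 ?_⟩,
      fun hw' => ⟨u, ⟨hu, rfl⟩, w, ⟨hw, rfl⟩, hw'⟩⟩
    · exact ((same_commute_iff ha hw).2 ((same_commute_iff hb ha.1).2 hab.2.1.symm).symm)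
    · rw [twins_eq ha, ← twins_eq hE]
      exact hb
  have hsym : ∀ {u w : G}, u ∈ D → w ∈ pts D u → u ∈ pts D w := fun hu hw =>
    ⟨hu, hw.2.1.symm, fun hE => hw.2.2 (twins_symm hE hw.1)⟩
  have hptscl : ∀ {u : G}, u ∈ D → ∀ m ∈ pts D u, sameCommutingClass D m ⊆ pts D u :=
    fun hu m hm e he => (h.sc _ hu).twins_mem h.cx hm he
  letI := Fintype.ofFinite ↥(sameCommutingClass D '' D)
  -- classes related to given ones
  have hcount : ∀ (P : ↥(sameCommutingClass D '' D) → Prop) [DecidablePred P] (S : Set G), S ⊆ D →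
      (∀ {p : G} (hp : p ∈ D), P (cl hp) ↔ p ∈ S) → (∀ m ∈ S, sameCommutingClass D m ⊆ S) →
      ∀ n, S.ncard = n * r → (Finset.univ.filter P).card = n := by
    intro P _ S hS hP hcl n hn
    rw [ncard_classes h hrp hS hcl] at hn
    rw [← Nat.eq_of_mul_eq_mul_right hr0 hn, ← Finset.card_map (Function.Embedding.subtype _),
      ← Set.ncard_coe_finset]
    congr 1
    ext E
    simp only [Finset.coe_map, Set.mem_image, Finset.mem_coe, Finset.mem_filter, Finset.mem_univ,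
      true_and, Function.Embedding.subtype_apply]
    constructor
    · rintro ⟨⟨E, p, hp, rfl⟩, hPp, rfl⟩
      exact ⟨p, (hP hp).1 hPp, rfl⟩
    · rintro ⟨p, hp, rfl⟩
      exact ⟨cl (hS hp), (hP (hS hp)).2 hp, rfl⟩
  have hk : ∀ E, (Finset.univ.filter fun F => R E F).card = s * (q ^ 2 + 1) := by
    rintro ⟨E, u, hu, rfl⟩
    refine hcount _ (pts D u) (fun m hm => hm.1) (fun hp => hR hu hp) (hptscl hu) _ ?_
    obtain ⟨a, ha⟩ := h.pts_nonempty hu
    rw [(h.sc u hu).ncard_eq h.cx ha, h.mult_eq hu ha, h.mult_const hu hd, hro u hu, ← hs, hr,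
      mul_assoc]
  have hl : ∀ E F, R E F → (Finset.univ.filter fun Z => R E Z ∧ R F Z).card = s - 1 := by
    rintro ⟨E, u, hu, rfl⟩ ⟨F, w, hw, rfl⟩ hEF
    have hwu := (hR hu hw).1 hEF
    refine hcount _ {m | m ∈ pts D u ∧ Commute m w ∧ m ∉ sameCommutingClass D w} (fun m hm => hm.1.1)
      (fun hp => ?_) (fun m hm e he => ⟨hptscl hu m hm.1 he,
        (same_commute_iff he hw).1 hm.2.1.symm |>.symm, fun hE => hm.2.2 ?_⟩) _ ?_
    · rw [hR hu hp, hR hw hp]
      exact ⟨fun ⟨a, b⟩ => ⟨a, b.2.1, b.2.2⟩, fun ⟨a, b, c⟩ => ⟨a, hp, b, c⟩⟩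
    · rw [← twins_eq hE, twins_eq he]
      exact ⟨hm.1.1, rfl⟩
    · rw [h.fibre_eq hu hwu, h.mult_const hu hd, hro u hu]
  have hm : ∀ E F, E ≠ F → ¬ R E F → (Finset.univ.filter fun Z => R E Z ∧ R F Z).card = 1 := by
    rintro ⟨E, u, hu, rfl⟩ ⟨F, w, hw, rfl⟩ hne hEF
    have huw : ¬ Commute w u := fun hh => hEF ((hR hu hw).2 ⟨hw, hh, fun hE =>
      hne (Subtype.ext (twins_eq hE).symm)⟩)
    obtain ⟨c, hc, hceq⟩ := h.common_eq hu (h.cx.oddPartners_of hu hw fun hh => huw hh.symm)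
    refine hcount _ (sameCommutingClass D c) (fun m hm => hm.1) (fun {p} hp => ?_)
      (fun m hm => (twins_eq hm).le) _ (by rw [hrp c hc, one_mul])
    rw [hR hu hp, hR hw hp, ← hceq]
    exact ⟨fun ⟨a, b⟩ => ⟨hp, a.2.1, b.2.1⟩, fun ⟨_, a, b⟩ => ⟨⟨hp, a, fun hE =>
      huw ((same_commute_iff hE hw).2 b.symm)⟩, hp, b, fun hE =>
      huw ((same_commute_iff hE hu).2 a.symm).symm⟩⟩
  have hk1 : 1 ≤ s * (q ^ 2 + 1) := Nat.one_le_iff_ne_zero.2 (Nat.mul_ne_zero (by omega) (by omega))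
  obtain ⟨hv, j, hj⟩ := CfsgLib.ThreeTransp.Srg.srg_conditions R
    (by rintro ⟨E, u, hu, rfl⟩ ⟨F, w, hw, rfl⟩ hEF
        exact (hR hw hu).2 (hsym hu ((hR hu hw).1 hEF)))
    (by rintro ⟨E, u, hu, rfl⟩ hEE
        exact ((hR hu hu).1 hEE).2.2 ⟨hu, rfl⟩)
    hk1 hk hl hm ⟨cl hd⟩
  set v : ℤ := (Fintype.card ↥(sameCommutingClass D '' D) : ℤ) with hv'
  clear_value v
  push_cast [Nat.cast_sub hspos] at hv hj
  set Q : ℤ := (q : ℤ) with hQ
  have hQ8 : (8 : ℤ) ≤ Q := by rw [hQ]; exact_mod_cast hq8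
  rcases hcases with e | e <;> rw [e] at hv hj <;> push_cast at hv hj
  · have hv1 : v - 1 = (Q ^ 2 + 1) ^ 2 := by linear_combination -hv
    rw [hv1] at hj
    obtain ⟨t, ht⟩ := sq_factor (fun e => by nlinarith [e, mul_pos (show (0 : ℤ) < Q ^ 2 + 1 by positivity) (show (0 : ℤ) < Q ^ 2 - 1 by nlinarith)]) hj
    exact (not_square_disc (q := Q) (by omega) t).1 (by linear_combination ht)
  · have hv1 : v - 1 = (Q ^ 2 * (Q ^ 2 + 1)) ^ 2 - Q ^ 4 * (Q ^ 2 + 1) + Q ^ 2 * (Q ^ 2 + 1) := by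
      linear_combination -hv
    rw [hv1] at hj
    obtain ⟨t, ht⟩ := sq_factor (by
      have h1 : (0 : ℤ) ≤ Q ^ 2 - 2 := by nlinarith
      have h2 : Q ^ 4 * (Q ^ 2 + 1) ≤ (Q ^ 2 * (Q ^ 2 + 1)) ^ 2 := by
        nlinarith [mul_nonneg (sq_nonneg (Q ^ 2)) (sq_nonneg Q), mul_nonneg (sq_nonneg (Q^2)) (sq_nonneg (Q ^ 2))]
      have h3 : (0 : ℤ) < Q ^ 2 * (Q ^ 2 + 1) := by positivity
      nlinarith [mul_nonneg (show (0:ℤ) ≤ (Q ^ 2 * (Q ^ 2 + 1)) ^ 2 - Q ^ 4 * (Q ^ 2 + 1) + Q ^ 2 * (Q ^ 2 + 1) by linarith) h1]) hj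
    exact (not_square_disc (q := Q) (by omega) t).2 (by linear_combination ht)

end Full

end CfsgLib.RootInv99
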