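import Cfsg.Agent.RootInvolutions.NoSuzuki99.Flat
import Cfsg.Agent.RootInvolutions.TwinsClosed99
import Cfsg.Agent.Classical.Linear.Simple

/-!
The group `⟨E_a, b⟩` of an odd pair: its members, and the identification of its quotient by the
2-core as `L₂(q)` or `Sz(q)` with `q = |E_a| + 1`.
-/

set_option autoImplicit false

universe u

namespace CfsgLib.RootInv99

open Cfsg CfsgLib.RootInv

variable {G : Type u} [Group G] {D : Set G}

/-- The span of an odd pair. -/
abbrev span (D : Set G) (a b : G) : Subgroup G := Subgroup.closure (sameCommutingClass D a ∪ {b})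

/-- The order of `⟨E_a⟩`. -/
noncomputable def rootOrder (D : Set G) (a : G) : ℕ := (sameCommutingClass D a).ncard + 1

theorem left_mem_span {a : G} (ha : a ∈ D) (b : G) : a ∈ span D a b :=
  Subgroup.subset_closure (Or.inl ⟨ha, rfl⟩)

theorem right_mem_span (a b : G) : b ∈ span D a b := Subgroup.subset_closure (Or.inr rfl)

theorem twin_mem_span {a b e : G} (he : e ∈ sameCommutingClass D a) : e ∈ span D a b :=
  Subgroup.subset_closure (Or.inl he)

theorem sq_eq_one_of_orderOf_two {K : Type*} [Group K] {y : K} (h : orderOf y = 2) : y ^ 2 = 1 :=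
  h ▸ pow_orderOf_eq_one y

theorem twins_symm {a b : G} (h : b ∈ sameCommutingClass D a) (ha : a ∈ D) :
    a ∈ sameCommutingClass D b := ⟨ha, h.2.symm⟩

theorem rootOrder_eq [Finite G] (hD : IsOddTranspositionSet D) (hone : OneClass D) {a b : G}
    (ha : a ∈ D) (hb : b ∈ D) : rootOrder D b = rootOrder D a := by
  obtain ⟨g, rfl⟩ := hone a ha b hb
  refine congrArg (· + 1) ((Set.ncard_congr (fun e _ => g * e * g⁻¹) (fun e he => conj_mem_twins hD he g)
    (fun _ _ _ _ h => mul_left_cancel (mul_right_cancel h)) fun e he => ?_).symm)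
  have := conj_mem_twins hD he g⁻¹
  rw [show g⁻¹ * (g * a * g⁻¹) * g⁻¹⁻¹ = a by group, inv_inv] at this
  exact ⟨_, this, by group⟩

section Members

variable [Finite G] (hD : IsOddTranspositionSet D) (hone : OneClass D) {l₁ l₂ : G}
  (hl : Line D l₁ l₂) {a b w w' : G} (ha : a ∈ D) (hb : b ∈ oddPartners D a)

include hD hone hl ha hb

/-- A member of the span has an odd partner there. -/
theorem exists_partner_in_span (hw : w ∈ D) (hwS : w ∈ span D a b) :
    ∃ u ∈ span D a b, u ∈ oddPartners D w := by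
  by_cases hc : Commute w a
  · have hE := same_of_mem hD hone hl ha hb hw hc hwS
    have hwb : ¬ Commute b w := not_commute_twin hD ha hb hE
    exact ⟨b, right_mem_span a b, hb.1, fun he => hwb (he ▸ Commute.refl b),
      (odd_or_commute hD hw hb.1).resolve_left fun h => hwb h.symm⟩
  · exact ⟨a, left_mem_span ha b, ha, fun he => hc (he ▸ Commute.refl a),
      (odd_or_commute hD hw ha).resolve_left hc⟩

/-- A member of the span commutes with `a` or is conjugate to it inside. -/
theorem exists_conj_in_span (hw : w ∈ D) (hwS : w ∈ span D a b) :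
    w ∈ sameCommutingClass D a ∨ ∃ g ∈ span D a b, g * a * g⁻¹ = w := by
  by_cases hc : Commute w a
  · exact Or.inl (same_of_mem hD hone hl ha hb hw hc hwS)
  obtain ⟨g, hg, hge⟩ := Involution.conjugate_of_odd (hD.1.orderOf_eq a ha) (hD.1.orderOf_eq w hw)
    ((odd_or_commute hD ha hw).resolve_left fun h => hc h.symm)
  refine Or.inr ⟨g, (Subgroup.closure_le _).2 ?_ hg, hge⟩
  rintro u (rfl | rfl)
  · exact left_mem_span ha b
  · exact hwS

/-- The twins of a member of the span lie in it. -/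
theorem twins_subset_span (hw : w ∈ D) (hwS : w ∈ span D a b) {e : G}
    (he : e ∈ sameCommutingClass D w) : e ∈ span D a b := by
  rcases exists_conj_in_span hD hone hl ha hb hw hwS with h | ⟨g, hg, rfl⟩
  · exact twin_mem_span (twins_eq h ▸ he)
  · have h1 := conj_mem_twins hD he g⁻¹
    rw [show g⁻¹ * (g * a * g⁻¹) * g⁻¹⁻¹ = a by group, inv_inv] at h1
    have h2 := mul_mem (mul_mem hg (twin_mem_span (b := b) h1)) (inv_mem hg)
    rwa [show g * (g⁻¹ * e * g) * g⁻¹ = e by group] at h2

/-- Commuting members of the span are twins. -/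
theorem twins_of_commute_in_span (hw : w ∈ D) (hwS : w ∈ span D a b) (hw' : w' ∈ D)
    (hwS' : w' ∈ span D a b) (hc : Commute w' w) : w' ∈ sameCommutingClass D w := by
  rcases exists_conj_in_span hD hone hl ha hb hw hwS with h | ⟨g, hg, rfl⟩
  · rw [twins_eq h]
    exact same_of_mem hD hone hl ha hb hw' ((same_commute_iff h hw').2 hc) hwS'
  · have hm : g⁻¹ * w' * g ∈ D := by have := hD.1.conj_mem w' hw' g⁻¹; rwa [inv_inv] at this
    have h1 : Commute (g⁻¹ * w' * g) a := by
      have := (Commute.conj_iff g⁻¹).2 hc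
      rwa [inv_inv, show g⁻¹ * (g * a * g⁻¹) * g = a by group] at this
    have h2 := conj_mem_twins hD
      (same_of_mem hD hone hl ha hb hm h1 (mul_mem (mul_mem (inv_mem hg) hwS') hg)) g
    rwa [show g * (g⁻¹ * w' * g) * g⁻¹ = w' by group] at h2

omit hone hl in
/-- Two members of a span generate a smaller one. -/
theorem span_le_of_mem (hsub : ∀ e ∈ sameCommutingClass D w, e ∈ span D a b)
    (hwS' : w' ∈ span D a b) : span D w w' ≤ span D a b := by
  rw [Subgroup.closure_le]
  rintro u (hu | rfl)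
  · exact hsub u hu
  · exact hwS'

/-- A member of the span is not in its 2-core. -/
theorem notMem_core (hw : w ∈ D) (hwS : w ∈ span D a b) :
    (⟨w, hwS⟩ : ↥(span D a b)) ∉ pCore 2 ↥(span D a b) := by
  have : Fact (Nat.Prime 2) := ⟨Nat.prime_two⟩
  intro h
  obtain ⟨u, huS, hu, hne, ho⟩ := exists_partner_in_span hD hone hl ha hb hw hwS
  have h1 := mul_mem h ((inferInstance : (pCore 2 ↥(span D a b)).Normal).conj_mem _ h ⟨u, huS⟩)
  obtain ⟨k, hk⟩ := LocalP.isPGroup_pCore (G := ↥(span D a b)) (p := 2) ⟨_, h1⟩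
  have hk' : (w * (u * w * u⁻¹)) ^ 2 ^ k = 1 := congrArg (fun z : ↥(pCore 2 ↥(span D a b)) =>
    ((z : ↥(span D a b)) : G)) hk
  rw [inv_self hD.1 hu, show w * (u * w * u) = (w * u) ^ 2 by simp only [pow_two, mul_assoc],
    ← pow_mul, ← pow_succ'] at hk'
  have h2 := eq_one_of_two_pow_of_odd hk' ho
  exact hne ((eq_inv_of_mul_eq_one_left h2).trans (inv_self hD.1 hu)).symm

variable (hcore : pCore 2 G = ⊥)

include hcore

omit hb in
/-- The product of two different twins is a twin. -/
theorem twin_mul (hex : (oddPartners D a).Nonempty) {e f : G} (he : e ∈ sameCommutingClass D a)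
    (hf : f ∈ sameCommutingClass D a) (hne : e ≠ f) : e * f ∈ sameCommutingClass D a := by
  obtain ⟨x, hx⟩ := hex
  exact mem_twins_of_mem_closure hD hone hl ha hx hcore
    (mul_mem (Subgroup.subset_closure he) (Subgroup.subset_closure hf))
    fun h => hne ((eq_inv_of_mul_eq_one_left h).trans (inv_self hD.1 hf.1))

/-- Twins with the same image modulo the 2-core of the span are equal. -/
theorem twin_eq_of_image {e f : G} (he : e ∈ sameCommutingClass D a)
    (hf : f ∈ sameCommutingClass D a)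
    (h : QuotientGroup.mk' (pCore 2 ↥(span D a b)) ⟨e, twin_mem_span he⟩ =
      QuotientGroup.mk' (pCore 2 ↥(span D a b)) ⟨f, twin_mem_span hf⟩) : e = f := by
  by_contra hne
  have hm := twin_mul hD hone hl ha hcore ⟨b, hb⟩ he hf hne
  refine notMem_core hD hone hl ha hb hm.1 (twin_mem_span hm) ((QuotientGroup.eq_one_iff _).1 ?_)
  have hff : (⟨f, twin_mem_span hf⟩ : ↥(span D a b)) * ⟨f, twin_mem_span hf⟩ = 1 :=
    Subtype.ext (mul_self hD.1 hf.1)
  show QuotientGroup.mk' (pCore 2 ↥(span D a b))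
    ((⟨e, twin_mem_span he⟩ : ↥(span D a b)) * ⟨f, twin_mem_span hf⟩) = 1
  rw [map_mul, h, ← map_mul, hff, map_one]

/-- The twins of `a` are the involutions of the quotient centralising it. -/
theorem rootOrder_of_invData {q : ℕ} (hY : InvData (↥(span D a b) ⧸ pCore 2 ↥(span D a b)) q) :
    (sameCommutingClass D a).ncard = q - 1 := by
  have : Fact (Nat.Prime 2) := ⟨Nat.prime_two⟩
  set π := QuotientGroup.mk' (pCore 2 ↥(span D a b))
  have hord : ∀ w (hwS : w ∈ span D a b), w ∈ D → orderOf (π ⟨w, hwS⟩) = 2 := fun w hwS hw =>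
    orderOf_eq_prime (by rw [← map_pow, pow_two, show (⟨w, hwS⟩ : ↥(span D a b)) * ⟨w, hwS⟩ = 1 from
      Subtype.ext (mul_self hD.1 hw), map_one])
      fun h => notMem_core hD hone hl ha hb hw hwS ((QuotientGroup.eq_one_iff _).1 h)
  set aX : ↥(span D a b) := ⟨a, left_mem_span ha b⟩
  rw [← hY.invols (π aX) (hord a _ ha)]
  refine Set.ncard_congr (fun e he => π ⟨e, twin_mem_span he⟩)
    (fun e he => ⟨hord e _ he.1, (show Commute (⟨e, twin_mem_span he⟩ : ↥(span D a b)) aX from
      Subtype.ext (same_commute ha he ⟨ha, rfl⟩).eq).map π⟩)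
    (fun e f he hf h => twin_eq_of_image hD hone hl ha hb hcore he hf h) ?_
  rintro y ⟨hy, hyc⟩
  obtain ⟨c, hc⟩ := isConj_iff.1 (hY.conj (π aX) y (hord a _ ha) hy)
  obtain ⟨g, rfl⟩ := QuotientGroup.mk'_surjective _ c
  have hwS : ((g : G) * a * (g : G)⁻¹) ∈ span D a b := (g * aX * g⁻¹).2
  have hwD := hD.1.conj_mem a ha (g : G)
  have hwy : π ⟨_, hwS⟩ = y := by rw [← hc, ← map_inv, ← map_mul, ← map_mul]; rfl
  refine ⟨_, same_of_mem hD hone hl ha hb hwD ?_ hwS, hwy⟩
  rcases odd_or_commute hD hwD ha with h | ho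
  · exact h
  -- an odd product with commuting images is trivial
  have ho' : Odd (orderOf ((⟨_, hwS⟩ : ↥(span D a b)) * aX)) := by
    rw [← Subgroup.orderOf_coe]; exact ho
  have h2 : π (⟨_, hwS⟩ * aX) * π (⟨_, hwS⟩ * aX) = 1 := by
    rw [map_mul, hwy, ← pow_two, hyc.mul_pow, sq_eq_one_of_orderOf_two hy,
      sq_eq_one_of_orderOf_two (hord a (left_mem_span ha b) ha), one_mul]
  obtain ⟨k, hk⟩ := LocalP.isPGroup_pCore (G := ↥(span D a b)) (p := 2)
    ⟨_, (QuotientGroup.eq_one_iff _).mp (eq_one_of_sq_of_odd h2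
      (ho'.of_dvd_nat (orderOf_map_dvd π _)))⟩
  have h3 := congrArg Subtype.val (eq_one_of_two_pow_of_odd (congrArg Subtype.val hk) ho')
  rw [(eq_inv_of_mul_eq_one_left (show (g : G) * a * (g : G)⁻¹ * a = 1 from h3)).trans
    (inv_self hD.1 ha)]

/-- The quotient of a span by its 2-core. -/
theorem span_cases (hc : RankOneBN.Criterion.{u}) :
    SzLike (↥(span D a b) ⧸ pCore 2 ↥(span D a b)) (rootOrder D a) ∨
      ∃ (F : Type) (_ : Field F) (_ : Fintype F), CharP F 2 ∧ 4 ≤ Fintype.card F ∧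
        Fintype.card F = rootOrder D a ∧
        Nonempty (↥(span D a b) ⧸ pCore 2 ↥(span D a b) ≃*
          Matrix.ProjectiveSpecialLinearGroup (Fin 2) F) := by
  rcases recognise_of_criterion hc hD ha hb with
    ⟨F, hFi, hFt, hF, h4, ⟨e⟩⟩ | h | ⟨n, ⟨e⟩⟩
  · letI := hFi; letI := hFt; haveI := hF
    refine Or.inr ⟨F, hFi, hFt, hF, h4, ?_, ⟨e⟩⟩
    rw [rootOrder, rootOrder_of_invData hD hone hl ha hb hcore (invData_psl e)]
    omega
  · obtain ⟨q, hq⟩ := szLike_of_iso h
    have := hq.eight_le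
    have hr : rootOrder D a = q := by
      rw [rootOrder, rootOrder_of_invData hD hone hl ha hb hcore hq.inv]
      omega
    exact Or.inl (hr ▸ hq)
  -- two twins exclude the dihedral groups
  exfalso
  obtain ⟨S, d', x', hS, -, hd', hx', hgen, hcore', hxe, hde, htw⟩ := exists_reduced_maps hD ha hb
  have : Fact (Nat.Prime 2) := ⟨Nat.prime_two⟩
  obtain ⟨f, hf⟩ := exists_line hD.1 hone hl ha
  have hfE : f ∈ sameCommutingClass D a := line_twin hD hf
  have hf' := htw ⟨f, twin_mem_span hfE⟩ hfE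
  have hne : QuotientGroup.mk' (pCore 2 ↥(span D a b)) ⟨f, twin_mem_span hfE⟩ ≠ d' := fun h =>
    Line.ne hD.1 hf (twin_eq_of_image hD hone hl ha hb hcore ⟨ha, rfl⟩ hfE
      ((hde ⟨a, left_mem_span ha b⟩ rfl).trans h.symm))
  set y := QuotientGroup.mk' (pCore 2 ↥(span D a b)) ⟨f, twin_mem_span hfE⟩
  have hy : orderOf (e y) = 2 := by rw [MulEquiv.orderOf_eq, hS.1.orderOf_eq y hf'.1]
  have hd2 : orderOf (e d') = 2 := by rw [MulEquiv.orderOf_eq, hS.1.orderOf_eq d' hd']
  have hcy : Commute (e y) (e d') := (same_commute hd' hf' (mem_same_self hS hd')).map e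
  have hprod : orderOf (e y * e d') = 2 := by
    refine orderOf_eq_prime (by
      rw [hcy.mul_pow, sq_eq_one_of_orderOf_two hy, sq_eq_one_of_orderOf_two hd2, one_mul]) fun h => ?_
    have h1 := (eq_inv_of_mul_eq_one_left h)
    rw [← map_inv, inv_self hS.1 hd'] at h1
    exact hne (e.injective h1)
  have hodd : Odd n := by
    by_contra hn
    rw [Nat.not_odd_iff_even] at hn
    exact dihedral_even_false e hn hcore'
  have hsr : ∀ w, orderOf w = 2 → ∃ i : ZMod n, w = DihedralGroup.sr i := by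
    intro w hw
    rcases w with i | i
    · exfalso
      have : orderOf (DihedralGroup.r i) ∣ n := orderOf_dvd_of_pow_eq_one (by simp)
      rw [hw] at this
      exact absurd this (by rw [Nat.two_dvd_ne_zero]; exact Nat.odd_iff.1 hodd)
    · exact ⟨i, rfl⟩
  obtain ⟨i, hi⟩ := hsr _ hy
  obtain ⟨j, hj⟩ := hsr _ hd2
  obtain ⟨k, hk⟩ := hsr _ hprod
  rw [hi, hj, DihedralGroup.sr_mul_sr] at hk
  exact absurd hk (by simp)

end Members

end CfsgLib.RootInv99
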