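import Cfsg.Agent.RootInvolutions.NoSuzuki99.Component

/-!
The spans inside a Suzuki component: each meets the members of every image exactly once.
-/

set_option autoImplicit false

universe u

namespace CfsgLib.RootInv99

open Cfsg CfsgLib.RootInv CfsgLib.RootInv.OddCommon

namespace SzLike

variable {K : Type*} [Group K] {q : ℕ}

theorem card_invols (h : SzLike K q) :
    {b : K | orderOf b = 2}.ncard = (q ^ 2 + 1) * (q - 1) := by
  classical
  have := h.finite
  obtain ⟨a, -, ha, -, -⟩ := h.torus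
  have hset : {b : K | orderOf b = 2} = MulAction.orbit (ConjAct K) a := by
    ext b
    rw [ConjAct.mem_orbit_conjAct]
    exact ⟨fun hb => h.inv.conj b a hb ha, fun hb => by
      obtain ⟨c, rfl⟩ := isConj_iff.1 hb.symm
      show orderOf (c * a * c⁻¹) = 2
      rw [orderOf_conj_eq, ha]⟩
  have hidx : (Subgroup.centralizer ({a} : Set K)).index = (q ^ 2 + 1) * (q - 1) := by
    refine Nat.eq_of_mul_eq_mul_left (show 0 < q ^ 2 by have := h.eight_le; positivity) ?_
    rw [← h.cent_card a ha, Subgroup.card_mul_index, h.card, h.cent_card a ha, mul_assoc]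
  rw [hset, ← hidx, Subgroup.centralizer_eq_comap_stabilizer]
  exact ((Subgroup.index_comap_of_surjective _ ConjAct.toConjAct.surjective).trans
    (MulAction.index_stabilizer _ _)).symm

end SzLike

variable {G : Type u} [Group G] [Finite G] {D : Set G}

/-- A Suzuki component among the members commuting with `v`. -/
structure SC (D : Set G) (v : G) (M : Set G) : Prop where
  memV : v ∈ D
  isComp : ∀ a ∈ M, M = comp D v a
  sz : SzSet M (rootOrder D v)

theorem Cx.sc_of_bad (h : Cx D) {v a b : G} (hv : v ∈ D) (ha : a ∈ D) (hav : Commute a v)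
    (hb : b ∈ comp D v a) (hab : ¬ Commute a b)
    (hbad : SzLike (↥(span D a b) ⧸ pCore 2 ↥(span D a b)) (rootOrder D a)) :
    SC D v (comp D v a) :=
  ⟨hv, fun _ hc => (h.comp_eq hc).symm,
    (rootOrder_eq h.ot h.one ha hv) ▸ h.szSet_of_bad hv ha hav hb hab hbad⟩

/-- Transport of a member along the group of a set of members. -/
abbrev inH {M : Set G} {m : G} (hm : m ∈ M) : ↥(Subgroup.closure M) :=
  ⟨m, Subgroup.subset_closure hm⟩

namespace SC

variable {v : G} {M : Set G} {a b c e m w : G} (h : Cx D) (C : SC D v M)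

include C

theorem disc : Disc (setIn M) := C.sz.disc

theorem szK : SzLike (↥(Subgroup.closure M) ⧸ twoZCore ↥(Subgroup.closure M)) (rootOrder D v) :=
  C.sz.sz

theorem mem (hm : m ∈ M) : m ∈ D ∧ Commute m v := by
  rw [C.isComp m hm] at hm
  exact hm.1

theorem orderOf_img (hm : m ∈ M) : orderOf (img hm) = 2 := C.disc.orderOf_bar hm

theorem commute_iff (ha : a ∈ M) (hb : b ∈ M) : Commute a b ↔ Commute (img ha) (img hb) :=
  ⟨fun hc => (show Commute (inH ha) (inH hb) from Subtype.ext hc.eq).map bar,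
    fun hc => congrArg Subtype.val (C.disc.commute_of_bar (u := inH ha) (v := inH hb) ha hb hc).eq⟩

theorem trans (ha : a ∈ M) (hb : b ∈ M) (hc : c ∈ M) (hab : Commute a b) (hac : Commute a c) :
    Commute b c :=
  congrArg Subtype.val (disc_trans C.disc (e := inH ha) (g := inH hb) (q := inH hc) ha hb hc
    (Subtype.ext hab.eq) (Subtype.ext hac.eq)).eq

theorem conj_mem {g : G} (hg : g ∈ Subgroup.closure M) (hm : m ∈ M) : g * m * g⁻¹ ∈ M :=
  C.disc.ot.1.conj_mem (inH hm) hm ⟨g, hg⟩

theorem exists_not_commute (hm : m ∈ M) : ∃ x ∈ M, ¬ Commute m x := by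
  obtain ⟨⟨x, hx⟩, hxM, hmx⟩ := C.disc.exists_not_commute (v := inH hm) hm
  exact ⟨x, hxM, fun hc => hmx (Subtype.ext hc.eq)⟩

theorem commute_v_of_mem {g : G} (hg : g ∈ Subgroup.closure M) : Commute g v := by
  have hle : Subgroup.closure M ≤ Subgroup.centralizer {v} := by
    rw [Subgroup.closure_le]
    exact fun m hm => Subgroup.mem_centralizer_singleton_iff.2 (C.mem hm).2.eq
  exact Subgroup.mem_centralizer_singleton_iff.1 (hle hg)

include h

theorem mem_of_not_commute (hm : m ∈ M) (hw : w ∈ D) (hwv : Commute w v) (hc : ¬ Commute w m) :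
    w ∈ M := by
  rw [C.isComp m hm]
  exact mem_comp_of_not_commute h.ot (self_mem_comp (C.mem hm).1 (C.mem hm).2) hw hwv hc

theorem commute_outside (hm : m ∈ M) (hw : w ∈ D) (hwv : Commute w v) (hn : w ∉ M) : Commute w m :=
  Classical.byContradiction fun hc => hn (C.mem_of_not_commute h hm hw hwv hc)

theorem twins_mem (hm : m ∈ M) (he : e ∈ sameCommutingClass D m) : e ∈ M := by
  obtain ⟨x, hx, hmx⟩ := C.exists_not_commute hm
  rw [C.isComp m hm] at hx ⊢
  exact h.twins_mem_comp hmx (C.mem hm).1 (C.mem hm).2 hx C.memV he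

theorem span_le (ha : a ∈ M) (hb : b ∈ M) : span D a b ≤ Subgroup.closure M :=
  span_le_closure (fun _ he => C.twins_mem h ha he) hb

theorem rootOrder_mem (hm : m ∈ M) : rootOrder D m = rootOrder D v :=
  rootOrder_eq h.ot h.one C.memV (C.mem hm).1

/-- Every odd pair in the component has a Suzuki span, covering the quotient. -/
theorem bad_surj (ha : a ∈ M) (hb : b ∈ M) (hab : ¬ Commute a b) :
    SzLike (↥(span D a b) ⧸ pCore 2 ↥(span D a b)) (rootOrder D a) ∧
      Function.Surjective (spanHom (C.span_le h ha hb)) := by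
  obtain ⟨l₁, l₂, hl⟩ := h.line
  have hq := C.szK.eight_le
  have hrm := C.rootOrder_mem h ha
  haveI := isSolvable_ker_spanHom (C.span_le h ha hb)
  set f := spanHom (C.span_le h ha hb)
  have := C.szK.finite
  rcases span_cases h.ot h.one hl (C.mem ha).1 (h.oddPartners_of (C.mem ha).1 (C.mem hb).1 hab)
      h.pCore_eq_bot criterion with hs | ⟨F, hFi, hFt, hF, h4, hFq, ⟨i⟩⟩
  · refine ⟨hs, MonoidHom.range_eq_top.1 (Subgroup.eq_top_of_le_card _ ?_)⟩
    have := hs.simple
    have hd := card_quot_dvd_range hs.not_solvable f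
    rw [hs.card, hrm, ← C.szK.card] at hd
    exact Nat.le_of_dvd Nat.card_pos hd
  exfalso
  letI := hFi; letI := hFt; haveI := hF
  have h4' : 4 ≤ Nat.card F := by rwa [Nat.card_eq_fintype_card]
  haveI := CfsgLib.Classical.Linear.isSimpleGroup_psl_fin (F := F) (n := 2) le_rfl (fun _ => h4')
  haveI := MulEquiv.isSimpleGroup i
  have hns : ¬ Group.IsSolvable (↥(span D a b) ⧸ pCore 2 ↥(span D a b)) := fun hsol => by
    have hc := (IsSimpleGroup.comm_iff_isSolvable).2 hsol
    refine CfsgLib.Classical.Linear.not_isMulCommutative_psl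
      (CfsgLib.Classical.Linear.commutator_sl_fin_eq_top (F := F) 2 fun _ =>
        CfsgLib.Classical.Linear.exists_sq_ne_one_of_four_le h4')
      ⟨⟨fun x y => i.symm.injective (by rw [map_mul, map_mul, hc])⟩⟩
  have hd := (card_quot_dvd_range hns f).trans (Subgroup.card_subgroup_dvd_card f.range)
  rw [card_psl_even i, hFq, hrm, C.szK.card] at hd
  set q := rootOrder D v
  -- `q + 1` is prime to the order of `Sz(q)`
  have h1 : q + 1 ∣ q ^ 2 * (q ^ 2 + 1) * (q - 1) := by
    have hh : q + 1 ∣ q * (q ^ 2 - 1) := dvd_mul_of_dvd_right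
      ⟨q - 1, by rw [← one_pow 2, Nat.sq_sub_sq, one_pow]⟩ q
    exact hh.trans hd
  obtain ⟨m, hm, hqm⟩ := C.szK.q_pow
  have hodd : Odd (q + 1) := by
    have hqm' : q = 2 ^ (2 * m + 1) := hqm
    rw [hqm']; exact ((Nat.even_pow (m := 2)).2 ⟨even_two, by omega⟩).add_one
  have hco : Nat.Coprime (q + 1) (q ^ 2) := by
    refine Nat.Coprime.pow_right 2 ?_
    rw [Nat.coprime_comm]
    exact Nat.coprime_self_add_right.2 (Nat.coprime_one_right q)
  rw [mul_assoc] at h1
  have h2 := hco.dvd_of_dvd_mul_left h1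
  have h3 : q + 1 ∣ 4 := by
    have hz : ((4 : ℕ) : ZMod (q + 1)) = 0 := by
      have h0 : (((q ^ 2 + 1) * (q - 1) : ℕ) : ZMod (q + 1)) = 0 :=
        (ZMod.natCast_eq_zero_iff _ _).2 h2
      have hq' : ((q : ℕ) : ZMod (q + 1)) = -1 := by
        have := ZMod.natCast_self (q + 1)
        push_cast at this
        linear_combination this
      rw [Nat.cast_mul, Nat.cast_add, Nat.cast_pow, Nat.cast_sub (by omega : 1 ≤ q), hq'] at h0
      push_cast at h0 ⊢
      linear_combination -h0
    exact (ZMod.natCast_eq_zero_iff _ _).1 hz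
  have := Nat.le_of_dvd (by norm_num) h3
  omega

theorem bad (ha : a ∈ M) (hb : b ∈ M) (hab : ¬ Commute a b) :
    SzLike (↥(span D a b) ⧸ pCore 2 ↥(span D a b)) (rootOrder D a) :=
  (C.bad_surj h ha hb hab).1

theorem exists_in_span (ha : a ∈ M) (hb : b ∈ M) (hab : ¬ Commute a b)
    (k : ↥(Subgroup.closure M) ⧸ twoZCore ↥(Subgroup.closure M)) :
    ∃ g : ↥(Subgroup.closure M), (g : G) ∈ span D a b ∧ bar g = k := by
  obtain ⟨g, hg⟩ := (C.bad_surj h ha hb hab).2 k
  exact ⟨Subgroup.inclusion (C.span_le h ha hb) g, g.2, hg⟩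

/-- Twins with equal images are equal. -/
theorem twin_img_inj (ha : a ∈ M) (hb : b ∈ M) (ht : b ∈ sameCommutingClass D a)
    (he : img ha = img hb) : a = b := by
  by_contra hne
  obtain ⟨l₁, l₂, hl⟩ := h.line
  obtain ⟨x, hx, hax⟩ := C.exists_not_commute ha
  have hm := twin_mul h.ot h.one hl (C.mem ha).1 h.pCore_eq_bot
    ⟨x, h.oddPartners_of (C.mem ha).1 (C.mem hx).1 hax⟩ ⟨(C.mem ha).1, rfl⟩ ht hne
  have hmM : a * b ∈ M := C.twins_mem h ha hm
  refine C.disc.bar_ne_one (u := inH hmM) hmM ?_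
  show bar (inH ha * inH hb) = 1
  rw [map_mul]
  show img ha * img hb = 1
  rw [he, ← map_mul, show inH hb * inH hb = 1 from Subtype.ext (mul_self h.ot.1 (C.mem hb).1), map_one]

theorem span_mem (ha : a ∈ M) (hb : b ∈ M) (hab : ¬ Commute a b) (hw : w ∈ D)
    (hwS : w ∈ span D a b) : w ∈ M := by
  obtain ⟨l₁, l₂, hl⟩ := h.line
  rcases exists_conj_in_span h.ot h.one hl (C.mem ha).1
      (h.oddPartners_of (C.mem ha).1 (C.mem hb).1 hab) hw hwS with ht | ⟨g, hg, rfl⟩
  · exact C.twins_mem h ha ht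
  · exact C.conj_mem (C.span_le h ha hb hg) ha

/-- Members of a span with equal images are equal. -/
theorem span_img_inj (ha : a ∈ M) (hb : b ∈ M) (hab : ¬ Commute a b) {w w' : G} (hw : w ∈ M)
    (hw' : w' ∈ M) (hwS : w ∈ span D a b) (hwS' : w' ∈ span D a b) (he : img hw = img hw') :
    w = w' := by
  obtain ⟨l₁, l₂, hl⟩ := h.line
  exact C.twin_img_inj h hw hw' (twins_of_commute_in_span h.ot h.one hl (C.mem ha).1
    (h.oddPartners_of (C.mem ha).1 (C.mem hb).1 hab) (C.mem hw).1 hwS (C.mem hw').1 hwS'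
    ((C.commute_iff hw' hw).2 (by rw [he]))) he

/-- A span has a member of every image. -/
theorem exists_span_img (ha : a ∈ M) (hb : b ∈ M) (hab : ¬ Commute a b)
    {y : ↥(Subgroup.closure M) ⧸ twoZCore ↥(Subgroup.closure M)} (hy : orderOf y = 2) :
    ∃ (w : G) (hw : w ∈ M), w ∈ span D a b ∧ img hw = y := by
  obtain ⟨k, hk⟩ := isConj_iff.1 (C.szK.inv.conj _ y (C.orderOf_img ha) hy)
  obtain ⟨g, hg, rfl⟩ := C.exists_in_span h ha hb hab k
  refine ⟨(g : G) * a * (g : G)⁻¹, C.conj_mem g.2 ha,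
    mul_mem (mul_mem hg (left_mem_span (C.mem ha).1 b)) (inv_mem hg), ?_⟩
  rw [← hk]
  show bar _ = bar g * bar _ * (bar g)⁻¹
  rw [← map_inv, ← map_mul, ← map_mul]
  rfl

/-- The twins of a member realise the involutions commuting with its image. -/
theorem exists_twin_img (hm : m ∈ M)
    {y : ↥(Subgroup.closure M) ⧸ twoZCore ↥(Subgroup.closure M)} (hy : orderOf y = 2)
    (hc : Commute y (img hm)) :
    ∃ (w : G) (hw : w ∈ M), w ∈ sameCommutingClass D m ∧ img hw = y := by
  obtain ⟨l₁, l₂, hl⟩ := h.line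
  obtain ⟨x, hx, hmx⟩ := C.exists_not_commute hm
  obtain ⟨w, hw, hwS, rfl⟩ := C.exists_span_img h hm hx hmx hy
  exact ⟨w, hw, same_of_mem h.ot h.one hl (C.mem hm).1
    (h.oddPartners_of (C.mem hm).1 (C.mem hx).1 hmx) (C.mem hw).1 ((C.commute_iff hw hm).2 hc) hwS,
    rfl⟩

/-- A span is determined by two of its members with non-commuting images. -/
theorem span_eq (ha : a ∈ M) (hb : b ∈ M) (hab : ¬ Commute a b) {a' b' : G} (ha' : a' ∈ M)
    (hb' : b' ∈ M) (haS : a' ∈ span D a b) (hbS : b' ∈ span D a b) (hab' : ¬ Commute a' b') :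
    span D a' b' = span D a b := by
  obtain ⟨l₁, l₂, hl⟩ := h.line
  have hp := h.oddPartners_of (C.mem ha).1 (C.mem hb).1 hab
  have hle : span D a' b' ≤ span D a b := span_le_of_mem h.ot (C.mem ha).1 hp
    (fun e he => twins_subset_span h.ot h.one hl (C.mem ha).1 hp (C.mem ha').1 haS he) hbS
  refine le_antisymm hle ?_
  have key : ∀ w, w ∈ D → w ∈ span D a b → w ∈ span D a' b' := by
    intro w hw hwS
    have hwM := C.span_mem h ha hb hab hw hwS
    obtain ⟨w', hw', hwS', he⟩ := C.exists_span_img h ha' hb' hab' (C.orderOf_img hwM)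
    rwa [← C.span_img_inj h ha hb hab hw' hwM (hle hwS') hwS he]
  rw [Subgroup.closure_le]
  rintro u (hu | rfl)
  · exact key u hu.1 (twin_mem_span hu)
  · exact key u (C.mem hb).1 (right_mem_span a u)

end SC

end CfsgLib.RootInv99
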